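import Groth.Agent.Lib.GrMap12.Basic

/-!
# The canonical maps of conormal sheaves
-/

set_option autoImplicit false
set_option backward.isDefEq.respectTransparency false
set_option backward.isDefEq.respectTransparency.types false
set_option linter.style.haveILetI false

universe u

open CategoryTheory CategoryTheory.Limits AlgebraicGeometry TopologicalSpace Opposite

namespace Groth.Agent.GrMap12

variable {Z Z' X X' : Scheme.{u}} {i : Z ⟶ X} {i' : Z' ⟶ X'} {g : X ⟶ X'} {gZ : Z ⟶ Z'}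

theorem canMap_sect (w : gZ ≫ i' = i ≫ g) (J' : X'.IdealSheafData) (J : X.IdealSheafData) (h : J' ≤ J.map g)
    (U' : X'.Opens) (s' : Γ(ClSub.idealMod J', U')) (s : Γ(ClSub.idealMod J, g ⁻¹ᵁ U'))
    (hs : OmegaSh.idealSect J (g ⁻¹ᵁ U') s = g.app U' (OmegaSh.idealSect J' U' s'))
    (V : Z.Opens) (h₁ : V ≤ gZ ⁻¹ᵁ (i' ⁻¹ᵁ U')) (h₂ : V ≤ i ⁻¹ᵁ (g ⁻¹ᵁ U')) :
    ((Scheme.Modules.pullback i).obj (ClSub.idealMod J)).presheaf.map (homOfLE h₁).op
        ((canMap w J' J h).app (gZ ⁻¹ᵁ (i' ⁻¹ᵁ U')) (OmegaSh.pullSect gZ _ (i' ⁻¹ᵁ U')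
          (OmegaSh.pullSect i' (ClSub.idealMod J') U' s'))) =
      ((Scheme.Modules.pullback i).obj (ClSub.idealMod J)).presheaf.map (homOfLE h₂).op
        (OmegaSh.pullSect i (ClSub.idealMod J) (g ⁻¹ᵁ U') s) := by
  let M := ClSub.idealMod J'
  let c := ModLimH13.cmp gZ i' (rfl : gZ ≫ i' = _)
  let d := ModLimH13.cmp i g w.symm
  let ψ := ConormalBC19.psi g J' J h
  have hs' : s = ψ.app (g ⁻¹ᵁ U') (M2.pullSec g M s') :=
    M2.idealIncl_injective J _ (hs.trans (idealIncl_psi g J' J h s').symm)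
  subst hs'
  have e0 : ∀ {A : Scheme.{u}} (G : A.Modules) (O : A.Opens) (t : Γ(G, O)), M1.mres G (le_rfl : O ≤ O) t = t :=
    fun G O t => ConcreteCategory.congr_hom (G.presheaf.map_id (op O)) t
  show M1.mres _ h₁ _ = _
  refine (M1.app_mres (canMap w J' J h) h₁ _).symm.trans ?_
  show ((Scheme.Modules.pullback i).map ψ).app V ((d.inv.app M).app V ((c.hom.app M).app V (M1.mres _ h₁
    (M2.pullSec gZ _ (M2.pullSec i' M s'))))) = _
  have hc : (c.hom.app M).app V (M1.mres _ h₁ (M2.pullSec gZ _ (M2.pullSec i' M s'))) =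
      ModLimH13.res' (gZ ≫ i') M (W := U') (h₁.trans le_rfl) s' := by
    rw [← e0 _ _ (M2.pullSec i' M s')]
    exact ModLimH13.cmp_res' gZ i' M rfl (le_rfl : i' ⁻¹ᵁ U' ≤ _) h₁ s'
  rw [hc]
  have hd : (d.inv.app M).app V (ModLimH13.res' (gZ ≫ i') M (W := U') (h₁.trans le_rfl) s') =
      M1.mres _ h₂ (M2.pullSec i _ (M2.pullSec g M s')) := by
    refine (congrArg ((d.inv.app M).app V) (ModLimH13.cmp_res' i g M w.symm le_rfl h₂ s').symm).trans ?_
    refine (congrArg (fun χ => χ.app V (ModLimH13.res' i _ h₂ (ModLimH13.res' g M (le_rfl : g ⁻¹ᵁ U' ≤ _) s')))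
      (d.hom_inv_id_app M)).trans ?_
    show ModLimH13.res' i _ h₂ (M1.mres _ le_rfl _) = _
    rw [e0]
    rfl
  rw [hd, M1.app_mres, FormalH7.pullSec_naturality]
  rfl

theorem ker_le_map (w : gZ ≫ i' = i ≫ g) : i'.ker ≤ i.ker.map g := by
  rw [← Scheme.Hom.ker_comp, ← w]
  exact Scheme.Hom.le_ker_comp _ _

theorem existsUnique_conormalMap (w : gZ ≫ i' = i ≫ g) :
    ∃! φ : (Scheme.Modules.pullback gZ).obj (Omega.conormal i') ⟶ Omega.conormal i,
      OmegaSh.IsConormalMap i i' g gZ φ :=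
  ⟨canMap w i'.ker i.ker (ker_le_map w), ⟨w, canMap_sect w _ _ _⟩, fun _ hφ => eq_canMap w _ _ _ _ hφ.2⟩

theorem epi_and_isIso_of_isPullback [IsImmersion i'] [QuasiCompact i'] (H : IsPullback gZ i i' g)
    {φ : (Scheme.Modules.pullback gZ).obj (Omega.conormal i') ⟶ Omega.conormal i}
    (hφ : OmegaSh.IsConormalMap i i' g gZ φ) : Epi φ ∧ (Flat g → IsIso φ) := by
  have w : gZ ≫ i' = i ≫ g := hφ.1
  obtain rfl := eq_canMap w i'.ker i.ker (ker_le_map w) φ hφ.2
  clear hφ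
  let W' := g ⁻¹ᵁ i'.coborderRange
  have hr : Set.range i ⊆ W' := ConormalBC19.range_subset H _ subset_coborder
  have hepi : Epi ((Scheme.Modules.pullback W'.ι).map (ConormalBC19.psi g i'.ker i.ker (ker_le_map w))) := by
    refine ConormalBC19.epi_restrict_psi g _ _ _ W' fun x hx => ?_
    obtain ⟨U, hU, hxU, hUle⟩ := exists_isAffineOpen_mem_and_subset (U := i'.coborderRange) (x := g x) hx
    exact ⟨⟨U, hU⟩, hxU, fun V e _ => ConormalBC19.ideal_le H ⟨U, hU⟩ hUle V e⟩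
  let k₀ : Z ⟶ W'.toScheme := IsOpenImmersion.lift W'.ι i (by rwa [Scheme.Opens.range_ι])
  have hk₀ : k₀ ≫ W'.ι = i := IsOpenImmersion.lift_fac _ _ _
  let ψ := ConormalBC19.psi g i'.ker i.ker (ker_le_map w)
  haveI hψ' : Epi ((Scheme.Modules.pullback i).map ψ) := by
    haveI : (Scheme.Modules.pullback k₀).PreservesEpimorphisms :=
      Functor.preservesEpimorphisms_of_adjunction (Scheme.Modules.pullbackPushforwardAdjunction k₀)
    haveI := (Scheme.Modules.pullback k₀).map_epi ((Scheme.Modules.pullback W'.ι).map ψ)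
    have e := Scheme.Modules.pullbackComp k₀ W'.ι ≪≫ Scheme.Modules.pullbackCongr hk₀
    rw [← NatIso.naturality_1 e ψ]
    simp only [Functor.comp_map]
    infer_instance
  refine ⟨by unfold canMap; infer_instance, fun _ => ?_⟩
  haveI : IsIso ψ := by
    haveI : Mono ψ := ConormalBC19.mono_psi g _ _ _
    haveI : Epi ψ := by
      refine ConormalBC19.epi_psi g _ _ _ fun x => ?_
      obtain ⟨U, hU, hxU, -⟩ := exists_isAffineOpen_mem_and_subset (U := (⊤ : X'.Opens)) (x := g x) trivial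
      refine ⟨⟨U, hU⟩, hxU, fun V e => le_of_eq ?_⟩
      rw [ConormalBC19.ker_eq_comap H]
      exact EffCartier.comap_ideal i'.ker g ⟨U, hU⟩ V e
    exact isIso_of_mono_of_epi ψ
  unfold canMap
  infer_instance

end Groth.Agent.GrMap12
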