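import Groth.Agent.Lib.Omega12.ImmersionSeq
import Groth.Agent.Lib.ModM1.Stalk

/-!
# The conormal sequence of an immersion with a retraction
-/

set_option autoImplicit false
set_option backward.isDefEq.respectTransparency false
set_option backward.isDefEq.respectTransparency.types false
set_option linter.style.haveILetI false

universe u

open CategoryTheory CategoryTheory.Limits AlgebraicGeometry TopologicalSpace Opposite

namespace Groth.Agent.GrMap12

variable {Z X : Scheme.{u}} (i : Z ⟶ X)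

/-- A function vanishing on the source is a section of the kernel ideal. -/
theorem exists_idealSect_of_app_eq_zero [QuasiCompact i] {W : X.Opens} (b : Γ(X, W)) (hb : i.app W b = 0) :
    ∃ s : Γ(ClSub.idealMod i.ker, W), M2.idealIncl i.ker s = b := by
  refine M2.exists_idealIncl_eq i.ker b ?_
  refine TopCat.Presheaf.section_ext i.ker.subscheme.sheaf _ _ _ fun y hy => ?_
  obtain ⟨V, hV, hyV, hVW⟩ := exists_isAffineOpen_mem_and_subset (X := X) (x := i.ker.subschemeι y) (U := W) hy
  have hVW : V ≤ W := hVW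
  have h1 : X.presheaf.map (homOfLE (hVW : V ≤ W)).op b ∈ i.ker.ideal ⟨V, hV⟩ := by
    rw [Scheme.Hom.ker_apply, RingHom.mem_ker]
    refine (ConcreteCategory.congr_hom (i.naturality (homOfLE (hVW : V ≤ W)).op) b).trans ?_
    show (Z.presheaf.map _) (i.app W b) = 0
    rw [hb, map_zero]
  rw [← Scheme.IdealSheafData.ker_subschemeι_app, RingHom.mem_ker] at h1
  show i.ker.subscheme.presheaf.germ _ y hy (i.ker.subschemeι.app W b) = i.ker.subscheme.presheaf.germ _ y hy 0
  rw [map_zero]
  refine Eq.trans ?_ (map_zero (i.ker.subscheme.presheaf.germ (i.ker.subschemeι ⁻¹ᵁ V) y hyV).hom)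
  refine Eq.trans ?_ (congrArg _ h1)
  refine Eq.trans ?_ (Scheme.Hom.germ_stalkMap_apply i.ker.subschemeι V y hyV _)
  rw [TopCat.Presheaf.germ_res_apply]
  exact (Scheme.Hom.germ_stalkMap_apply i.ker.subschemeι W y hy b).symm

variable (g : X ⟶ Z) (hgi : i ≫ g = 𝟙 Z)

include hgi in
theorem preimage_retraction (O : Z.Opens) : i ⁻¹ᵁ (g ⁻¹ᵁ O) = O := by
  rw [← Scheme.Hom.comp_preimage, hgi]
  rfl

/-- `i♯` as restricted to a small open. -/
noncomputable abbrev up (O : Z.Opens) (W : X.Opens) (h : W ≤ g ⁻¹ᵁ O) : Γ(Z, O) →+* Γ(X, W) :=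
  (g.appLE O W h).hom

include hgi in
theorem down_up (O : Z.Opens) (W : X.Opens) (h : W ≤ g ⁻¹ᵁ O) (s : Γ(Z, O)) :
    i.app W (g.appLE O W h s) =
      Z.presheaf.map (homOfLE ((i.preimage_mono h).trans (preimage_retraction i g hgi O).le)).op s := by
  have key : ∀ (k : Z ⟶ Z) (_ : k = 𝟙 Z) (O' : Z.Opens) (e : O' ≤ k ⁻¹ᵁ O) (e' : O' ≤ O),
      k.appLE O O' e s = Z.presheaf.map (homOfLE e').op s := by
    intro k hk O' e e'; subst hk; rw [Scheme.Hom.appLE, Scheme.Hom.id_app]; rfl
  refine Eq.trans ?_ (key (i ≫ g) hgi (i ⁻¹ᵁ W) (i.preimage_mono h) _)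
  rw [Scheme.Hom.app_eq_appLE, ← CategoryTheory.comp_apply, Scheme.Hom.appLE_comp_appLE]

variable {S : Scheme.{u}} (f : X ⟶ S)

include hgi in
theorem exists_retraction_derivation [QuasiCompact i] (hgS : g ≫ i ≫ f = f) :
    ∃ D : OmegaSh.Der f ((Scheme.Modules.pushforward i).obj (Omega.conormal i)),
      ∀ (V : X.Opens) (s : Γ(ClSub.idealMod i.ker, V)),
        D.app V (M2.idealIncl i.ker s) = OmegaSh.conormalSect i V s := by
  let C := Omega.conormal i
  -- the open on which `a - g♯ i♯ a` makes sense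
  let sh : X.Opens → X.Opens := fun V => V ⊓ g ⁻¹ᵁ (i ⁻¹ᵁ V)
  have mapid : ∀ (W : X.Opens) (h : W ≤ W) (c : Γ(X, W)), X.presheaf.map (homOfLE h).op c = c :=
    fun W h c => ConcreteCategory.congr_hom (X.presheaf.map_id (op W)) c
  have hsh : ∀ V, i ⁻¹ᵁ V ≤ i ⁻¹ᵁ sh V := fun V z hz =>
    ⟨hz, (preimage_retraction i g hgi (i ⁻¹ᵁ V)).ge hz⟩
  let bb : ∀ (V : X.Opens), Γ(X, V) → Γ(X, sh V) := fun V a =>
    X.presheaf.map (homOfLE (inf_le_left : sh V ≤ V)).op a -
      g.appLE (i ⁻¹ᵁ V) (sh V) inf_le_right (i.app V a)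
  have hbb : ∀ V a, i.app (sh V) (bb V a) = 0 := fun V a => by
    show i.app (sh V) (_ - _) = 0
    rw [map_sub, down_up i g hgi, sub_eq_zero]
    exact ConcreteCategory.congr_hom (i.naturality (homOfLE (inf_le_left : sh V ≤ V)).op) a
  choose t ht using fun (V : X.Opens) (a : Γ(X, V)) => exists_idealSect_of_app_eq_zero i (bb V a) (hbb V a)
  let cl : ∀ (V : X.Opens), Γ(X, V) → Γ(C, i ⁻¹ᵁ V) := fun V a =>
    M1.mres C (hsh V) (OmegaSh.conormalSect i (sh V) (t V a))
  have cl_eq : ∀ (V : X.Opens) (a : Γ(X, V)) (W : X.Opens) (hW : W ≤ sh V) (hW' : i ⁻¹ᵁ V ≤ i ⁻¹ᵁ W)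
      (s : Γ(ClSub.idealMod i.ker, W)),
      M2.idealIncl i.ker s = X.presheaf.map (homOfLE hW).op (bb V a) →
      cl V a = M1.mres C hW' (OmegaSh.conormalSect i W s) := by
    intro V a W hW hW' s hs
    have e : s = M1.mres (ClSub.idealMod i.ker) hW (t V a) := M2.idealIncl_injective i.ker W (by
      rw [hs, ← ht V a]; exact (M2.idealIncl_res i.ker hW _).symm)
    rw [e]
    refine Eq.trans ?_ (congrArg (M1.mres C hW') (M1.app_mres
      ((Scheme.Modules.pullbackPushforwardAdjunction i).unit.app (ClSub.idealMod i.ker)) hW (t V a))).symm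
    exact (M1.mres_mres C (i.preimage_mono hW) hW' _).symm
  have cl_add : ∀ (V : X.Opens) (a b : Γ(X, V)), cl V (a + b) = cl V a + cl V b := fun V a b => by
    refine (cl_eq V (a + b) (sh V) le_rfl (hsh V) (t V a + t V b) ?_).trans ?_
    · rw [M2.idealIncl_add, ht, ht]
      rw [mapid]
      show _ = _ - _
      simp only [bb, map_add]
      show _ = _
      abel
    · exact (congrArg _ (map_add (OmegaSh.conormalSect i (sh V)).hom _ _)).trans (map_add _ _ _)
  let D : OmegaSh.Der f ((Scheme.Modules.pushforward i).obj C) :=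
    { d := fun {U} => AddMonoidHom.mk' (cl U.unop) (cl_add U.unop)
      d_mul := fun {U} a b => by
        let V := U.unop
        show cl V ((show Γ(X, V) from a) * b) = i.app V a • cl V b + i.app V b • cl V a
        let W := sh V
        let a' : Γ(X, W) := X.presheaf.map (homOfLE (inf_le_left : sh V ≤ V)).op a
        let pb : Γ(X, W) := g.appLE (i ⁻¹ᵁ V) W inf_le_right (i.app V b)
        refine (cl_eq V _ W le_rfl (hsh V) (a' • t V b + pb • t V a) ?_).trans ?_
        · rw [M2.idealIncl_add, M2.idealIncl_smul, M2.idealIncl_smul, ht, ht]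
          rw [mapid]
          simp only [bb, a', pb, map_mul]
          show _ = _
          ring
        · have hs : ∀ (c : Γ(X, W)) (e : Γ(Z, i ⁻¹ᵁ V)) (u : Γ(ClSub.idealMod i.ker, W)),
              Z.presheaf.map (homOfLE (hsh V)).op (i.app W c) = e →
              M1.mres C (hsh V) (OmegaSh.conormalSect i W (c • u)) =
                e • M1.mres C (hsh V) (OmegaSh.conormalSect i W u) := by
            intro c e u he
            subst he
            refine (congrArg _ (M2.pullSec_smul i (ClSub.idealMod i.ker) c u)).trans ?_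
            exact M1.mres_smul _ _ _ _
          refine (congrArg _ (map_add (OmegaSh.conormalSect i W).hom _ _)).trans ?_
          refine (map_add _ _ _).trans (congrArg₂ (· + ·) (hs a' _ _ ?_) (hs pb _ _ ?_))
          · refine (congrArg _ (ConcreteCategory.congr_hom (i.naturality (homOfLE (inf_le_left : sh V ≤ V)).op) a)).trans ?_
            show (Z.presheaf.map _) ((Z.presheaf.map _) (i.app V a)) = i.app V a
            rw [← CategoryTheory.comp_apply, ← Functor.map_comp]
            exact ConcreteCategory.congr_hom (Z.presheaf.map_id _) _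
          · show (Z.presheaf.map _) (i.app W (g.appLE _ W _ (i.app V b))) = _
            rw [down_up i g hgi, ← CategoryTheory.comp_apply, ← Functor.map_comp]
            exact ConcreteCategory.congr_hom (Z.presheaf.map_id _) _
      d_map := fun {U U'} k a => by
        show cl U'.unop (X.presheaf.map k a) = M1.mres C (i.preimage_mono k.unop.le) (cl U.unop a)
        let W := sh U'.unop
        have hW : W ≤ sh U.unop := inf_le_inf k.unop.le (g.preimage_mono (i.preimage_mono k.unop.le))
        refine (cl_eq U'.unop _ W le_rfl (hsh _) (M1.mres _ hW (t U.unop a)) ?_).trans ?_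
        · refine (M2.idealIncl_res i.ker hW _).trans ?_
          rw [ht]
          rw [mapid]
          show X.presheaf.map (homOfLE hW).op (_ - _) = _ - _
          rw [map_sub]
          refine congrArg₂ (· - ·) ?_ ?_
          · rw [← CategoryTheory.comp_apply, ← Functor.map_comp]
            refine Eq.trans ?_ (CategoryTheory.comp_apply _ _ _)
            rw [← Functor.map_comp]
            rfl
          · have h1 : i.app U'.unop (X.presheaf.map k a) =
                Z.presheaf.map ((Opens.map i.base).map k.unop).op (i.app U.unop a) :=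
              ConcreteCategory.congr_hom (i.naturality k) a
            rw [h1]
            refine Eq.trans ?_ (ConcreteCategory.congr_hom (Scheme.Hom.map_appLE g _ _) _).symm
            exact ConcreteCategory.congr_hom (Scheme.Hom.appLE_map g _ _) _
        · refine (congrArg (M1.mres C (hsh _)) (M1.app_mres
            ((Scheme.Modules.pullbackPushforwardAdjunction i).unit.app (ClSub.idealMod i.ker)) hW (t U.unop a))).trans ?_
          show M1.mres C _ (M1.mres C _ _) = M1.mres C _ (M1.mres C _ _)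
          rw [M1.mres_mres, M1.mres_mres]
          rfl
      d_app := fun {O} c => by
        let V := f ⁻¹ᵁ O.unop
        show cl V (f.app O.unop c) = 0
        refine (cl_eq V _ (sh V) le_rfl (hsh V) 0 ?_).trans ?_
        · rw [M2.idealIncl, map_zero]
          rw [mapid]
          show (0 : Γ(X, sh V)) = _ - _
          symm
          rw [sub_eq_zero]
          have key : ∀ (k : X ⟶ S) (e : sh V ≤ k ⁻¹ᵁ O.unop), k = f →
              k.appLE O.unop (sh V) e c = X.presheaf.map (homOfLE (inf_le_left : sh V ≤ V)).op (f.app O.unop c) := by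
            intro k e hk; subst hk; rfl
          refine (key (g ≫ i ≫ f) (fun x hx => hx.2) hgS).symm.trans ?_
          simp only [Scheme.Hom.appLE, Scheme.Hom.comp_app, CategoryTheory.comp_apply]
          rfl
        · exact (congrArg _ (map_zero (OmegaSh.conormalSect i (sh V)).hom)).trans (map_zero _) }
  refine ⟨D, fun V s => ?_⟩
  show cl V (M2.idealIncl i.ker s) = _
  have hz : i.app V (M2.idealIncl i.ker s) = 0 := by
    refine ConormalBC19.app_eq_zero_of_eq (Scheme.Hom.toImage_imageι i) ?_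
    rw [Scheme.Hom.comp_app, CommRingCat.comp_apply]
    show i.toImage.app _ (i.ker.subschemeι.app V (M2.idealIncl i.ker s)) = 0
    rw [M2.subschemeι_app_idealIncl, map_zero]
  refine (cl_eq V _ (sh V) le_rfl (hsh V) (M1.mres _ (inf_le_left : sh V ≤ V) s) ?_).trans ?_
  · refine (M2.idealIncl_res i.ker inf_le_left s).trans ?_
    rw [mapid]
    show _ = _ - g.appLE _ _ _ (i.app V (M2.idealIncl i.ker s))
    rw [hz, map_zero, sub_zero]
  · refine (congrArg (M1.mres C (hsh V)) (M1.app_mres
      ((Scheme.Modules.pullbackPushforwardAdjunction i).unit.app (ClSub.idealMod i.ker)) inf_le_left s)).trans ?_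
    refine (M1.mres_mres C _ _ _).trans ?_
    exact ConcreteCategory.congr_hom (C.presheaf.map_id (op (i ⁻¹ᵁ V))) _

include hgi in
theorem split_seq [IsImmersion i] [QuasiCompact i] (hgS : g ≫ i ≫ f = f)
    (ΩX : X.Modules) (dX : OmegaSh.Der f ΩX) (hX : OmegaSh.IsUniversal dX)
    (ΩZ : Z.Modules) (dZ : OmegaSh.Der (i ≫ f) ΩZ) (hZ : OmegaSh.IsUniversal dZ)
    (φ : Omega.conormal i ⟶ (Scheme.Modules.pullback i).obj ΩX) (hφ : OmegaSh.IsConormalDiff i dX φ)
    (c : (Scheme.Modules.pullback i).obj ΩX ⟶ ΩZ) (hc : OmegaSh.IsDiffCompat i dX dZ c) :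
    ∃ w : φ ≫ c = 0, (ShortComplex.mk φ c w).Exact ∧
      (∃ r : (Scheme.Modules.pullback i).obj ΩX ⟶ Omega.conormal i, φ ≫ r = 𝟙 _) ∧
      ∃ σ : ΩZ ⟶ (Scheme.Modules.pullback i).obj ΩX, σ ≫ c = 𝟙 _ := by
  obtain ⟨w, hex, -⟩ := Omega12.exact_immersion i ΩX dX hX ΩZ dZ hZ φ hφ c hc
  refine ⟨w, hex, ?_, ?_⟩
  · obtain ⟨D, hD⟩ := exists_retraction_derivation i g hgi f hgS
    obtain ⟨u, hu, -⟩ := hX _ D
    let adj := Scheme.Modules.pullbackPushforwardAdjunction i
    refine ⟨(adj.homEquiv _ _).symm u, ?_⟩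
    haveI : Coh.IsQCoh (ClSub.idealMod i.ker) := M2.isQCoh_idealMod i.ker
    refine ModLimH13.pullback_hom_ext i _ _ _ fun y => ?_
    obtain ⟨V, hV, hyV, -⟩ := exists_isAffineOpen_mem_and_subset (X := X) (x := y) (U := ⊤) trivial
    refine ⟨V, Set.univ, hyV, hV, Submodule.span_univ, fun s _ => ?_⟩
    rw [show ModLimH13.res' i (ClSub.idealMod i.ker) (le_rfl : i ⁻¹ᵁ V ≤ _) s = OmegaSh.conormalSect i V s from
      ConcreteCategory.congr_hom ((Omega.conormal i).presheaf.map_id _) _]
    show ((adj.homEquiv _ _).symm u).app (i ⁻¹ᵁ V) (φ.app (i ⁻¹ᵁ V) (OmegaSh.conormalSect i V s)) = OmegaSh.conormalSect i V s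
    rw [hφ V s]
    refine Eq.trans ?_ (hD V s)
    refine Eq.trans ?_ (congrArg (fun E => OmegaSh.Der.app E V (M2.idealIncl i.ker s)) hu)
    show ((adj.homEquiv _ _).symm u).app (i ⁻¹ᵁ V) (OmegaSh.pullSect i ΩX V (dX.app V (M2.idealIncl i.ker s))) =
      u.app V (dX.app V (M2.idealIncl i.ker s))
    refine Eq.trans ?_ (congrArg (fun ψ => Scheme.Modules.Hom.app ψ V (dX.app V (M2.idealIncl i.ker s)))
      ((adj.homEquiv _ _).apply_symm_apply u))
    rw [Adjunction.homEquiv_unit]
    rfl
  · let N := (Scheme.Modules.pullback i).obj ΩX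
    have hle : ∀ U : Z.Opens, U ≤ i ⁻¹ᵁ (g ⁻¹ᵁ U) := fun U => (preimage_retraction i g hgi U).ge
    let e : ∀ U : Z.Opens, Γ(Z, U) →+ Γ(N, U) := fun U =>
      (M1.mres N (hle U)).hom.comp ((OmegaSh.pullSect i ΩX (g ⁻¹ᵁ U)).hom.comp
        ((dX.app (g ⁻¹ᵁ U)).comp (g.app U).hom.toAddMonoidHom))
    have hid : ∀ (U : Z.Opens) (s : Γ(Z, U)), Z.presheaf.map (homOfLE (hle U)).op (i.app (g ⁻¹ᵁ U) (g.app U s)) = s :=
      fun U s => by
      rw [Scheme.Hom.app_eq_appLE g, down_up i g hgi U (g ⁻¹ᵁ U) le_rfl s, ← CategoryTheory.comp_apply,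
        ← Functor.map_comp]
      exact ConcreteCategory.congr_hom (Z.presheaf.map_id _) _
    let E : OmegaSh.Der (i ≫ f) N :=
      { d := fun {U} => e U.unop
        d_mul := fun {U} a b => by
          let O := U.unop
          show M1.mres N (hle O) (OmegaSh.pullSect i ΩX (g ⁻¹ᵁ O) (dX.app (g ⁻¹ᵁ O) (g.app O (a * b)))) = _
          rw [map_mul, show dX.app (g ⁻¹ᵁ O) (g.app O a * g.app O b) = g.app O a • dX.app (g ⁻¹ᵁ O) (g.app O b) +
            g.app O b • dX.app (g ⁻¹ᵁ O) (g.app O a) from dX.d_mul (X := op (g ⁻¹ᵁ O)) _ _]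
          refine (congrArg _ (map_add (OmegaSh.pullSect i ΩX (g ⁻¹ᵁ O)).hom _ _)).trans ?_
          refine (map_add _ _ _).trans ?_
          refine congrArg₂ (· + ·) ?_ ?_
          all_goals
            refine (congrArg _ (M2.pullSec_smul i ΩX _ _)).trans ?_
            refine (M1.mres_smul _ _ _ _).trans ?_
            refine congrArg (· • _) ?_
            exact hid O _
        d_map := fun {U V} k a => by
          show M1.mres N (hle V.unop) (OmegaSh.pullSect i ΩX (g ⁻¹ᵁ V.unop) (dX.app _ (g.app V.unop (Z.presheaf.map k a)))) =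
            M1.mres N k.unop.le (e U.unop a)
          rw [show g.app V.unop (Z.presheaf.map k a) = X.presheaf.map ((Opens.map g.base).map k.unop).op (g.app U.unop a)
            from ConcreteCategory.congr_hom (g.naturality k) a,
            show dX.app (g ⁻¹ᵁ V.unop) (X.presheaf.map ((Opens.map g.base).map k.unop).op (g.app U.unop a)) =
              M1.mres ΩX (g.preimage_mono k.unop.le) (dX.app _ (g.app U.unop a)) from dX.d_map _ _]
          refine (congrArg _ (M1.app_mres ((Scheme.Modules.pullbackPushforwardAdjunction i).unit.app ΩX) _ _)).trans ?_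
          show M1.mres N _ (M1.mres N _ _) = M1.mres N _ (M1.mres N _ _)
          rw [M1.mres_mres, M1.mres_mres]
          rfl
        d_app := fun {O} c => by
          show e ((i ≫ f) ⁻¹ᵁ O.unop) ((i ≫ f).app O.unop c) = 0
          have hfe : f ⁻¹ᵁ O.unop = g ⁻¹ᵁ ((i ≫ f) ⁻¹ᵁ O.unop) := by rw [← Scheme.Hom.comp_preimage, hgS]
          have key : ∀ (k : X ⟶ S) (h : g ⁻¹ᵁ ((i ≫ f) ⁻¹ᵁ O.unop) ≤ k ⁻¹ᵁ O.unop) (_ : k = f),
              k.appLE O.unop _ h c = X.presheaf.map (homOfLE hfe.ge).op (f.app O.unop c) := by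
            intro k h hk; subst hk; rfl
          have hc0 : dX.app (g ⁻¹ᵁ ((i ≫ f) ⁻¹ᵁ O.unop)) (g.app _ ((i ≫ f).app O.unop c)) = 0 := by
            rw [show g.app _ ((i ≫ f).app O.unop c) = X.presheaf.map (homOfLE hfe.ge).op (f.app O.unop c) from by
              refine Eq.trans ?_ (key (g ≫ i ≫ f) le_rfl hgS)
              exact (ConcreteCategory.congr_hom
                ((Scheme.Hom.app_eq_appLE (g ≫ i ≫ f) (U := O.unop)).symm.trans (Scheme.Hom.comp_app g (i ≫ f) O.unop)) c).symm]
            refine (dX.d_map (homOfLE hfe.ge).op (f.app O.unop c)).trans ?_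
            rw [show dX.d (X := op (f ⁻¹ᵁ O.unop)) (f.app O.unop c) = 0 from dX.d_app (X := O) c]
            exact map_zero _
          show M1.mres N _ (OmegaSh.pullSect i ΩX _ (dX.app _ (g.app _ ((i ≫ f).app O.unop c)))) = 0
          rw [hc0]
          exact (congrArg _ (map_zero (OmegaSh.pullSect i ΩX _).hom)).trans (map_zero _) }
    obtain ⟨σ, hσ, -⟩ := hZ N E
    refine ⟨σ, Omega12.hom_ext_der _ hZ fun U s => ?_⟩
    show c.app U (σ.app U (dZ.app U s)) = dZ.app U s
    refine (congrArg (c.app U) (congrArg (fun G => OmegaSh.Der.app G U s) hσ)).trans ?_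
    show c.app U (M1.mres N (hle U) (OmegaSh.pullSect i ΩX (g ⁻¹ᵁ U) (dX.app _ (g.app U s)))) = _
    rw [M1.app_mres]
    refine (congrArg _ (hc _ _)).trans ?_
    refine Eq.trans (dZ.d_map (homOfLE (hle U)).op _).symm ?_
    exact congrArg (dZ.app U) (hid U s)

end Groth.Agent.GrMap12
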