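import Groth.Agent.Lib.GrMap12.ConormalDiff
import Groth.Agent.Lib.GrMap12.Conormal
import Groth.Agent.Lib.GrMap12.Split
import Groth.Agent.Lib.Omega12.Exists
import Groth.Agent.Lib.Omega12.Compat
import Groth.Agent.Lib.Omega12.BaseChange

/-!
# The conormal sheaf of a section commutes with base change

`isIso_conormalMap_section`.
-/

set_option autoImplicit false
set_option backward.isDefEq.respectTransparency false
set_option backward.isDefEq.respectTransparency.types false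
set_option linter.style.haveILetI false

universe u

open CategoryTheory CategoryTheory.Limits AlgebraicGeometry TopologicalSpace Opposite

namespace Groth.Agent.GrMap12

theorem der_eq_zero_of_eq_id {X : Scheme.{u}} {k : X ⟶ X} (hk : k = 𝟙 X) {F : X.Modules}
    (d : OmegaSh.Der k F) (U : X.Opens) (s : Γ(X, U)) : d.app U s = 0 := by
  subst hk
  exact d.d_app (X := op U) s

/-- For a section, the conormal sheaf is the inverse image of the differentials. -/
theorem isIso_conormalDiff_section {X Y : Scheme.{u}} (g : X ⟶ Y) (f : Y ⟶ X) [IsImmersion f] [QuasiCompact f]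
    (hf : f ≫ g = 𝟙 Y) {Ω : X.Modules} {d : OmegaSh.Der g Ω} (hd : OmegaSh.IsUniversal d)
    {δ : Omega.conormal f ⟶ (Scheme.Modules.pullback f).obj Ω} (hδ : OmegaSh.IsConormalDiff f d δ) :
    IsIso δ := by
  obtain ⟨ΩZ, dZ, hZ⟩ := Omega12.exists_isUniversal (f ≫ g)
  obtain ⟨c, hc, -⟩ := Omega12.existsUnique_diffCompat (h := f) (b := 𝟙 Y) (f' := f ≫ g) (Category.comp_id _) hd dZ
  obtain ⟨w, hex, ⟨r, hr⟩, -⟩ := split_seq f g hf g (by rw [hf, Category.comp_id]) Ω d hd ΩZ dZ hZ δ hδ c hc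
  have hzero : 𝟙 ΩZ = 0 := Omega12.hom_ext_der (f ≫ g) hZ fun U s => by
    rw [der_eq_zero_of_eq_id hf dZ U s, map_zero, map_zero]
  have hc0 : c = 0 := by rw [← Category.comp_id c, hzero, comp_zero]
  haveI : Mono δ := mono_of_mono_fac hr
  haveI : Epi δ := hex.epi_f hc0
  exact isIso_of_mono_of_epi δ

variable {X Y X' Y' : Scheme.{u}}

theorem isPullback_section (g : X ⟶ Y) (f : Y ⟶ X) (hf : f ≫ g = 𝟙 Y) (u : Y' ⟶ Y) (v : X' ⟶ X)
    (g' : X' ⟶ Y') (hsq : IsPullback v g' g u) (f' : Y' ⟶ X') (hf' : f' ≫ g' = 𝟙 Y')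
    (hf'v : f' ≫ v = u ≫ f) : IsPullback u f' f v := by
  refine IsPullback.of_bot ?_ hf'v.symm hsq
  rw [hf, hf']
  exact IsPullback.of_vert_isIso ⟨by simp⟩

theorem isIso_conormalMap_section (g : X ⟶ Y) (f : Y ⟶ X) [IsClosedImmersion f] (hf : f ≫ g = 𝟙 Y)
    (u : Y' ⟶ Y) (v : X' ⟶ X) (g' : X' ⟶ Y') (hsq : IsPullback v g' g u) (f' : Y' ⟶ X')
    (hf' : f' ≫ g' = 𝟙 Y') (hf'v : f' ≫ v = u ≫ f)
    (φ : (Scheme.Modules.pullback u).obj (Omega.conormal f) ⟶ Omega.conormal f')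
    (hφ : OmegaSh.IsConormalMap f' f v u φ) : IsIso φ := by
  have hsec := isPullback_section g f hf u v g' hsq f' hf' hf'v
  haveI : IsClosedImmersion f' := MorphismProperty.of_isPullback hsec inferInstance
  haveI : Epi φ := (epi_and_isIso_of_isPullback hsec hφ).1
  obtain ⟨Ω, d, hd⟩ := Omega12.exists_isUniversal g
  obtain ⟨Ω', d', hd'⟩ := Omega12.exists_isUniversal g'
  obtain ⟨c, hc, -⟩ := Omega12.existsUnique_diffCompat hsq.w.symm hd d'
  haveI : IsIso c := Omega12.isIso_diffCompat_of_isPullback hsq hd hd' c hc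
  obtain ⟨δ, hδ, -⟩ := existsUnique_conormalDiff f d
  obtain ⟨δ', hδ', -⟩ := existsUnique_conormalDiff f' d'
  haveI : IsIso δ := isIso_conormalDiff_section g f hf hd hδ
  haveI : IsIso δ' := isIso_conormalDiff_section g' f' hf' hd' hδ'
  let M := ClSub.idealMod f.ker
  haveI : Coh.IsQCoh M := M2.isQCoh_idealMod f.ker
  let E : (Scheme.Modules.pullback u).obj ((Scheme.Modules.pullback f).obj Ω) ⟶
      (Scheme.Modules.pullback f').obj Ω' :=
    (ModLimH13.cmp u f rfl).hom.app Ω ≫ (ModLimH13.cmp f' v hf'v).inv.app Ω ≫ (Scheme.Modules.pullback f').map c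
  haveI : IsIso E := by
    dsimp only [E]
    infer_instance
  have key : φ ≫ δ' = (Scheme.Modules.pullback u).map δ ≫ E := by
    let c₀ := ModLimH13.cmp u f (rfl : u ≫ f = _)
    rw [← cancel_epi (c₀.inv.app M)]
    refine ModLimH13.pullback_hom_ext _ M _ _ fun x => ?_
    obtain ⟨U, hU, hxU, -⟩ := exists_isAffineOpen_mem_and_subset (X := X) (x := x) (U := ⊤) trivial
    refine ⟨U, Set.univ, hxU, hU, Submodule.span_univ, fun s _ => ?_⟩
    let W := (u ≫ f) ⁻¹ᵁ U
    have h₁ : W ≤ u ⁻¹ᵁ (f ⁻¹ᵁ U) := le_rfl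
    have h₂ : W ≤ f' ⁻¹ᵁ (v ⁻¹ᵁ U) := (congrArg (fun a : Y' ⟶ X => a ⁻¹ᵁ U) hf'v).ge
    have e0 : ∀ {A : Scheme.{u}} (G : A.Modules) (O : A.Opens) (t : Γ(G, O)), M1.mres G (le_rfl : O ≤ O) t = t :=
      fun G O t => ConcreteCategory.congr_hom (G.presheaf.map_id (op O)) t
    let x₀ := M1.mres ((Scheme.Modules.pullback u).obj (Omega.conormal f)) h₁
      (OmegaSh.pullSect u (Omega.conormal f) (f ⁻¹ᵁ U) (OmegaSh.conormalSect f U s))
    have ec : (c₀.inv.app M).app W (ModLimH13.res' (u ≫ f) M (W := U) (W' := W) le_rfl s) = x₀ := by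
      refine (congrArg ((c₀.inv.app M).app W) (ModLimH13.cmp_res' u f M rfl le_rfl h₁ s).symm).trans ?_
      refine (congrArg (fun ψ => ψ.app W (ModLimH13.res' u _ h₁ (ModLimH13.res' f M (le_rfl : f ⁻¹ᵁ U ≤ _) s)))
        (c₀.hom_inv_id_app M)).trans ?_
      show M1.mres _ h₁ (M2.pullSec u _ (M1.mres _ le_rfl _)) = _
      rw [e0]
      rfl
    show (φ ≫ δ').app W ((c₀.inv.app M).app W (ModLimH13.res' (u ≫ f) M (W := U) (W' := W) le_rfl s)) =
      ((Scheme.Modules.pullback u).map δ ≫ E).app W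
        ((c₀.inv.app M).app W (ModLimH13.res' (u ≫ f) M (W := U) (W' := W) le_rfl s))
    rw [ec]
    let b := OmegaSh.idealSect f.ker U s
    obtain ⟨s', hs'⟩ := exists_idealSect_of_app_eq_zero f' (v.app U b) (by
      have h0 : (u ≫ f).app U b = 0 := by
        rw [Scheme.Hom.comp_app, CommRingCat.comp_apply, app_idealSect, map_zero]
      have h1 := ConormalBC19.app_eq_zero_of_eq hf'v.symm h0
      rw [Scheme.Hom.comp_app, CommRingCat.comp_apply] at h1
      exact h1)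
    have hl : φ.app W x₀ = M1.mres _ h₂ (OmegaSh.conormalSect f' (v ⁻¹ᵁ U) s') :=
      (M1.app_mres φ h₁ _).trans (hφ.2 U s s' hs' W h₁ h₂)
    have hr : ((Scheme.Modules.pullback u).map δ).app W x₀ =
        ModLimH13.res' u _ h₁ (ModLimH13.res' f Ω (le_rfl : f ⁻¹ᵁ U ≤ _) (d.app U b)) := by
      refine (M1.app_mres _ h₁ _).trans ?_
      refine congrArg (M1.mres _ h₁) ((FormalH7.pullSec_naturality u δ (OmegaSh.conormalSect f U s)).trans ?_)
      refine congrArg (M2.pullSec u _) ((hδ U s).trans ?_)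
      exact (e0 _ _ _).symm
    show δ'.app W (φ.app W x₀) = ((Scheme.Modules.pullback f').map c).app W
      (((ModLimH13.cmp f' v hf'v).inv.app Ω).app W (((ModLimH13.cmp u f rfl).hom.app Ω).app W
        (((Scheme.Modules.pullback u).map δ).app W x₀)))
    rw [hl, hr, ModLimH13.cmp_res' u f Ω rfl le_rfl h₁, M1.app_mres, hδ' (v ⁻¹ᵁ U) s',
      show OmegaSh.idealSect f'.ker (v ⁻¹ᵁ U) s' = v.app U b from hs', ← hc U b]
    have hd₂ : ((ModLimH13.cmp f' v hf'v).inv.app Ω).app W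
        (ModLimH13.res' (u ≫ f) Ω (W := U) (W' := W) le_rfl (d.app U b)) =
        M1.mres _ h₂ (M2.pullSec f' _ (M2.pullSec v Ω (d.app U b))) := by
      refine (congrArg (((ModLimH13.cmp f' v hf'v).inv.app Ω).app W)
        (ModLimH13.cmp_res' f' v Ω hf'v le_rfl h₂ (d.app U b)).symm).trans ?_
      refine (congrArg (fun ψ => ψ.app W (ModLimH13.res' f' _ h₂ (ModLimH13.res' v Ω (le_rfl : v ⁻¹ᵁ U ≤ _) (d.app U b))))
        ((ModLimH13.cmp f' v hf'v).hom_inv_id_app Ω)).trans ?_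
      show M1.mres _ h₂ (M2.pullSec f' _ (M1.mres _ le_rfl _)) = _
      rw [e0]
    refine Eq.trans ?_ (congrArg (((Scheme.Modules.pullback f').map c).app W) hd₂).symm
    rw [M1.app_mres, FormalH7.pullSec_naturality]
    rfl
  haveI : IsIso (φ ≫ δ') := by rw [key]; infer_instance
  exact IsIso.of_isIso_comp_right φ δ'

end Groth.Agent.GrMap12
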