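import Groth.Agent.Lib.GrMap12.GrAlg
import Groth.Agent.Lib.GrMap12.Section
import Groth.Agent.Lib.GrMap12.Conormal
import Groth.Agent.Lib.PP12.AffineOps
import Groth.Agent.Lib.PureClosed13.Rank
import Groth.Agent.Lib.FlatH4.PullChart
import Groth.Agent.Lib.EffCartier.Comap

/-!
# Graded pieces of the ideal of a section commute with base change, flat pieces

`isIso_grMap_section_of_flat`.
-/

set_option autoImplicit false
set_option backward.isDefEq.respectTransparency false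
set_option backward.isDefEq.respectTransparency.types false
set_option linter.style.haveILetI false

universe u

open CategoryTheory CategoryTheory.Limits AlgebraicGeometry TopologicalSpace Opposite TensorProduct

namespace Groth.Agent.GrMap12

section alg

variable {A B M P : Type u} [CommRing A] [CommRing B] [Algebra A B] [Algebra B A] [AddCommGroup M] [Module B M]
  [AddCommGroup P] [Module A P] [Module B P] [IsScalarTower B A P]

theorem nonempty_gr_equiv (I : Ideal B) (k : ℕ) (hIA : ∀ i ∈ I, algebraMap B A i = 0)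
    (hker : ∀ b : B, b - algebraMap A B (algebraMap B A b) ∈ I)
    (hsec : ∀ a : A, algebraMap B A (algebraMap A B a) = a)
    (incl : M →ₗ[B] B) (hincl : Function.Injective incl) (hr : LinearMap.range incl = I ^ k)
    (h : M →ₗ[B] P) (hbc : IsBaseChange A h) : Nonempty (P ≃ₗ[A] grInQuot (A := A) I k) := by
  letI : Module A M := Module.compHom M (algebraMap A B)
  haveI : IsScalarTower A B M := IsScalarTower.of_algebraMap_smul fun _ _ => rfl
  let h' : M →ₗ[A] P :=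
    { toFun := h
      map_add' := h.map_add
      map_smul' := fun a m => by
        show h (algebraMap A B a • m) = a • h m
        rw [map_smul, ← algebraMap_smul A (algebraMap A B a) (h m), hsec] }
  let q : M →ₗ[A] grInQuot (A := A) I k :=
    LinearMap.codRestrict _ ((Ideal.Quotient.mkₐ A (I ^ (k + 1))).toLinearMap ∘ₗ incl.restrictScalars A)
      fun m => ⟨⟨incl m, hr.le ⟨m, rfl⟩⟩, rfl⟩
  have hq : Function.Surjective q := fun ⟨_, ⟨⟨b, hb⟩, e⟩⟩ => by
    obtain ⟨m, hm⟩ := hr.ge hb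
    exact ⟨m, Subtype.ext ((congrArg (Ideal.Quotient.mk (I ^ (k + 1))) hm).trans e)⟩
  have hh : Function.Surjective h' := fun p => by
    obtain ⟨t, rfl⟩ := hbc.equiv.surjective p
    induction t using TensorProduct.induction_on with
    | zero => exact ⟨0, by rw [map_zero, map_zero]⟩
    | tmul a m => exact ⟨a • m, by rw [map_smul, hbc.equiv_tmul]; rfl⟩
    | add x y hx hy =>
      obtain ⟨x', hx'⟩ := hx
      obtain ⟨y', hy'⟩ := hy
      exact ⟨x' + y', by rw [map_add, map_add, hx', hy']⟩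
  have key : LinearMap.ker h' = LinearMap.ker q := by
    have hI : ∀ m, q m = 0 ↔ m ∈ I • (⊤ : Submodule B M) := fun m => by
      have h2 : Submodule.map incl (I • (⊤ : Submodule B M)) = I ^ (k + 1) := by
        rw [Submodule.map_smul'', Submodule.map_top, hr, pow_succ']
        rfl
      rw [Subtype.ext_iff]
      show Ideal.Quotient.mk (I ^ (k + 1)) (incl m) = 0 ↔ _
      rw [Ideal.Quotient.eq_zero_iff_mem]
      exact ⟨fun hm => by obtain ⟨m', hm', e⟩ := h2.ge hm; rwa [← hincl e], fun hm => h2.le ⟨m, hm, rfl⟩⟩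
    ext m
    rw [LinearMap.mem_ker, LinearMap.mem_ker, hI]
    refine ⟨fun hm => ?_, fun hm => ?_⟩
    · let Φ : A ⊗[B] M →+ M ⧸ (I • (⊤ : Submodule B M)) :=
        TensorProduct.liftAddHom
          { toFun := fun a => AddMonoidHom.mk' (fun x => Submodule.Quotient.mk (algebraMap A B a • x))
              (fun x y => by rw [smul_add, Submodule.Quotient.mk_add])
            map_zero' := by ext x; simp
            map_add' := fun a b => by ext x; simp [add_smul] }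
          (fun r a x => by
            show Submodule.Quotient.mk (algebraMap A B (r • a) • x) = Submodule.Quotient.mk (algebraMap A B a • r • x)
            rw [Submodule.Quotient.eq, Algebra.smul_def r a, map_mul, smul_smul, mul_comm (algebraMap A B a) r,
              ← sub_smul, ← sub_mul]
            refine Submodule.smul_mem_smul (Ideal.mul_mem_right _ _ ?_) trivial
            have := neg_mem (hker r)
            rwa [neg_sub] at this)
      have h0 : (1 : A) ⊗ₜ[B] m = 0 := hbc.equiv.injective (by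
        rw [map_zero, hbc.equiv_tmul, one_smul]; exact hm)
      have := congrArg Φ h0
      rw [map_zero] at this
      rw [← Submodule.Quotient.mk_eq_zero]
      simpa [Φ] using this
    · refine Submodule.smul_induction_on hm (fun i hi y _ => ?_) fun x y hx hy => by rw [map_add, hx, hy, add_zero]
      show h (i • y) = 0
      rw [map_smul, ← algebraMap_smul A i (h y), hIA i hi, zero_smul]
  exact ⟨(h'.quotKerEquivOfSurjective hh).symm.trans
    ((Submodule.quotEquivOfEq _ _ key).trans (q.quotKerEquivOfSurjective hq))⟩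

end alg

theorem appLE_comp_eq {X Y Z : Scheme.{u}} (p : X ⟶ Y) (q : Y ⟶ Z) {r : X ⟶ Z} (hr : p ≫ q = r) {U : Z.Opens}
    {V : Y.Opens} {W : X.Opens} (e₁ : V ≤ q ⁻¹ᵁ U) (e₂ : W ≤ p ⁻¹ᵁ V) (e : W ≤ r ⁻¹ᵁ U) (a : Γ(Z, U)) :
    p.appLE V W e₂ (q.appLE U V e₁ a) = r.appLE U W e a := by
  subst hr
  rw [← CategoryTheory.comp_apply, Scheme.Hom.appLE_comp_appLE]

theorem appLE_id' {Y : Scheme.{u}} {k : Y ⟶ Y} (hk : k = 𝟙 Y) {W : Y.Opens} (e : W ≤ k ⁻¹ᵁ W) (a : Γ(Y, W)) :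
    k.appLE W W e a = a := by
  subst hk
  rw [Scheme.Hom.appLE, Scheme.Hom.id_app]
  exact ConcreteCategory.congr_hom (Y.presheaf.map_id _) a

theorem appLE_eq_zero {X Y : Scheme.{u}} (f : Y ⟶ X) [QuasiCompact f] (U : X.affineOpens) {W : Y.Opens}
    (e : W ≤ f ⁻¹ᵁ U.1) {i : Γ(X, U.1)} (hi : i ∈ f.ker.ideal U) : f.appLE U.1 W e i = 0 := by
  rw [Scheme.Hom.ker_apply, RingHom.mem_ker] at hi
  show Y.presheaf.map (homOfLE e).op (f.app U.1 i) = 0
  rw [hi, map_zero]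

theorem mem_ker_of_appLE_eq_zero {X Y : Scheme.{u}} (f : Y ⟶ X) [QuasiCompact f] (U : X.affineOpens)
    {W : Y.Opens} (e : W = f ⁻¹ᵁ U.1) {i : Γ(X, U.1)} (hi : f.appLE U.1 W e.le i = 0) : i ∈ f.ker.ideal U := by
  subst e
  rw [Scheme.Hom.ker_apply, RingHom.mem_ker, Scheme.Hom.app_eq_appLE]
  exact hi

/-- Linear inclusion of the sections of an ideal. -/
noncomputable def inclLin {X : Scheme.{u}} (J : X.IdealSheafData) (U : X.Opens) :
    Γ(ClSub.idealMod J, U) →ₗ[Γ(X, U)] Γ(X, U) where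
  toFun := M2.idealIncl J
  map_add' := M2.idealIncl_add J
  map_smul' r a := M2.idealIncl_smul J r a

theorem range_inclLin {X : Scheme.{u}} (J : X.IdealSheafData) (U : X.affineOpens) :
    LinearMap.range (inclLin J U.1) = J.ideal U :=
  SetLike.coe_injective ((LinearMap.coe_range _).trans (M2.range_idealIncl J U))

variable {X Y : Scheme.{u}} (g : X ⟶ Y) (f : Y ⟶ X) [IsClosedImmersion f]

theorem flat_grInQuot_of_flat (hf : f ≫ g = 𝟙 Y) (k : ℕ) (hflat : FlatMod.IsFlat (PrinPart.grMod f k))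
    {U : X.Opens} (hU : IsAffineOpen U) {W : Y.Opens} (hW : IsAffineOpen W) (hUW : U ≤ g ⁻¹ᵁ W)
    (hfU : W = f ⁻¹ᵁ U) [a₁ : Algebra Γ(Y, W) Γ(X, U)]
    (h₁ : algebraMap Γ(Y, W) Γ(X, U) = (g.appLE W U hUW).hom) :
    Module.Flat Γ(Y, W) (grInQuot (A := Γ(Y, W)) (f.ker.ideal ⟨U, hU⟩) k) := by
  have hfW : W ≤ f ⁻¹ᵁ U := hfU.le
  letI a₂ : Algebra Γ(X, U) Γ(Y, W) := (f.appLE U W hfW).hom.toAlgebra
  have hsec : ∀ a, algebraMap Γ(X, U) Γ(Y, W) (algebraMap Γ(Y, W) Γ(X, U) a) = a := fun a => by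
    rw [h₁]
    show f.appLE U W hfW (g.appLE W U hUW a) = a
    rw [appLE_comp_eq f g hf hUW hfW (by intro x hx; exact hx)]
    exact appLE_id' rfl _ a
  let J := f.ker ^ k
  let N := (Scheme.Modules.pullback f).obj (ClSub.idealMod J)
  letI := PullBC11.baseModule (g := f) N hfW
  haveI : IsScalarTower Γ(X, U) Γ(Y, W) Γ(N, W) := IsScalarTower.of_algebraMap_smul fun _ _ => rfl
  obtain ⟨e⟩ := nonempty_gr_equiv (A := Γ(Y, W)) (f.ker.ideal ⟨U, hU⟩) k
    (fun i hi => appLE_eq_zero f ⟨U, hU⟩ hfW hi)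
    (fun b => mem_ker_of_appLE_eq_zero f ⟨U, hU⟩ hfU (by
      rw [map_sub, sub_eq_zero]
      exact (hsec _).symm))
    hsec (inclLin J U) (M2.idealIncl_injective J U)
    ((range_inclLin J ⟨U, hU⟩).trans (by simp [J]))
    (PullBC11.sect (PP12.unitTo f (ClSub.idealMod J)) hfW)
    (PP12.isBC_unit f (M2.isQCoh_idealMod J) hU hW hfW)
  haveI : Module.Flat Γ(Y, W) Γ(N, W) := PureClosed13.flat_sections
    (M1.isQCoh_pullback f (M2.isQCoh_idealMod J)) hflat hW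
  exact Module.Flat.of_linearEquiv e.symm

variable {X' Y' : Scheme.{u}} (u : Y' ⟶ Y) (v : X' ⟶ X) (g' : X' ⟶ Y') (f' : Y' ⟶ X')

theorem adj_app {n : ℕ} (φ : (Scheme.Modules.pullback u).obj (PrinPart.grMod f n) ⟶ PrinPart.grMod f' n)
    (hφ : PrinPart.IsGrMap f' f v u n φ) {U : X.Opens} {U' : X'.Opens} (hle : U' ≤ v ⁻¹ᵁ U) {V' : Y'.Opens}
    (h₁ : V' ≤ (u ≫ f) ⁻¹ᵁ U) (h₂ : V' ≤ f' ⁻¹ᵁ U')
    (m : Γ(ClSub.idealMod (f.ker ^ n), U)) (s : Γ(ClSub.idealMod (f'.ker ^ n), U'))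
    (sf : Γ(ClSub.idealMod (f'.ker ^ n), v ⁻¹ᵁ U))
    (hsf : OmegaSh.idealSect (f'.ker ^ n) (v ⁻¹ᵁ U) sf = v.app U (OmegaSh.idealSect (f.ker ^ n) U m))
    (hs : s = M1.mres (ClSub.idealMod (f'.ker ^ n)) hle sf) :
    PullBC11.sect ((Scheme.Modules.pullbackPushforwardAdjunction (u ≫ f)).homEquiv _ _
        ((ModLimH13.cmp u f rfl).inv.app (ClSub.idealMod (f.ker ^ n)) ≫ φ)) h₁ m =
      PullBC11.sect (PP12.unitTo f' (ClSub.idealMod (f'.ker ^ n))) h₂ s := by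
  subst hs
  let M := ClSub.idealMod (f.ker ^ n)
  have e0 : ∀ {A : Scheme.{u}} (G : A.Modules) (O : A.Opens) (t : Γ(G, O)), M1.mres G (le_rfl : O ≤ O) t = t :=
    fun G O t => ConcreteCategory.congr_hom (G.presheaf.map_id (op O)) t
  let c₀ := ModLimH13.cmp u f (rfl : u ≫ f = _)
  let W := (u ≫ f) ⁻¹ᵁ U
  have k₁ : W ≤ u ⁻¹ᵁ (f ⁻¹ᵁ U) := le_rfl
  have ec : (c₀.inv.app M).app W (M2.pullSec (u ≫ f) M m) =
      M1.mres _ k₁ (M2.pullSec u _ (M2.pullSec f M m)) := by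
    refine Eq.trans ?_ ((congrArg ((c₀.inv.app M).app W) (ModLimH13.cmp_res' u f M rfl le_rfl k₁ m).symm).trans ?_)
    · exact congrArg ((c₀.inv.app M).app W) (e0 _ _ _).symm
    refine (congrArg (fun ψ => ψ.app W (ModLimH13.res' u _ k₁ (ModLimH13.res' f M (le_rfl : f ⁻¹ᵁ U ≤ _) m)))
      (c₀.hom_inv_id_app M)).trans ?_
    show M1.mres _ k₁ (M2.pullSec u _ (M1.mres _ le_rfl _)) = _
    rw [e0]
  show M1.mres _ h₁ (((Scheme.Modules.pullbackPushforwardAdjunction (u ≫ f)).homEquiv _ _ _).app U m) =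
    M1.mres _ h₂ (OmegaSh.pullSect f' _ U' (M1.mres _ hle sf))
  rw [Adjunction.homEquiv_unit]
  show M1.mres (PrinPart.grMod f' n) h₁ (φ.app W ((c₀.inv.app M).app W (M2.pullSec (u ≫ f) M m))) = _
  rw [ec]
  refine (congrArg (M1.mres _ h₁) (M1.app_mres φ k₁ _)).trans ?_
  refine (M1.mres_mres _ _ _ _).trans ?_
  refine (hφ.2 U m sf hsf V' h₁ (h₂.trans (f'.preimage_mono hle))).trans ?_
  show M1.mres _ _ _ = M1.mres _ h₂ _
  refine Eq.trans ?_ (congrArg (M1.mres _ h₂) (M1.app_mres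
    ((Scheme.Modules.pullbackPushforwardAdjunction f').unit.app (ClSub.idealMod (f'.ker ^ n))) hle sf)).symm
  exact (M1.mres_mres (PrinPart.grMod f' n) (f'.preimage_mono hle) h₂ _).symm

theorem exists_chart (hf : f ≫ g = 𝟙 Y) (y : Y) :
    ∃ (W : Y.Opens) (U : X.Opens), IsAffineOpen W ∧ IsAffineOpen U ∧ y ∈ W ∧ U ≤ g ⁻¹ᵁ W ∧ W = f ⁻¹ᵁ U := by
  obtain ⟨V, hV, hyV, -⟩ := exists_isAffineOpen_mem_and_subset (X := Y) (x := y) (U := ⊤) trivial
  have hgy : g (f y) = y := by rw [← Scheme.Hom.comp_apply, hf]; rfl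
  obtain ⟨U₀, hU₀, hyU₀, hU₀V⟩ := exists_isAffineOpen_mem_and_subset (X := X) (x := f y) (U := g ⁻¹ᵁ V)
    (show g (f y) ∈ V by rw [hgy]; exact hyV)
  have hU₀V : U₀ ≤ g ⁻¹ᵁ V := hU₀V
  obtain ⟨r, hr, hyr⟩ := hV.exists_basicOpen_le (V := f ⁻¹ᵁ U₀) ⟨y, hyU₀⟩ hyV
  have hgr : g ⁻¹ᵁ Y.basicOpen r = X.basicOpen (g.app V r) := Scheme.preimage_basicOpen g r
  have hU : IsAffineOpen (U₀ ⊓ g ⁻¹ᵁ Y.basicOpen r) := by
    have h := hU₀.basicOpen (X.presheaf.map (homOfLE hU₀V).op (g.app V r))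
    rw [hgr]
    rwa [Scheme.basicOpen_res] at h
  refine ⟨Y.basicOpen r, U₀ ⊓ g ⁻¹ᵁ Y.basicOpen r, hV.basicOpen r, hU, hyr, inf_le_right, ?_⟩
  show Y.basicOpen r = f ⁻¹ᵁ U₀ ⊓ f ⁻¹ᵁ (g ⁻¹ᵁ Y.basicOpen r)
  rw [← Scheme.Hom.comp_preimage, hf]
  exact (inf_eq_right.2 hr).symm

set_option maxHeartbeats 1600000 in
theorem isBC_adj (hf : f ≫ g = 𝟙 Y) (hsq : IsPullback v g' g u) [IsClosedImmersion f'] (hf' : f' ≫ g' = 𝟙 Y')
    (hf'v : f' ≫ v = u ≫ f) {n : ℕ} (hflat : ∀ k < n, FlatMod.IsFlat (PrinPart.grMod f k))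
    (φ : (Scheme.Modules.pullback u).obj (PrinPart.grMod f n) ⟶ PrinPart.grMod f' n)
    (hφ : PrinPart.IsGrMap f' f v u n φ) (hker : f'.ker = f.ker.comap v)
    {W : Y.Opens} (hW : IsAffineOpen W) {U : X.Opens} (hU : IsAffineOpen U) (hUW : U ≤ g ⁻¹ᵁ W) (hfU : W = f ⁻¹ᵁ U)
    {V' : Y'.Opens} (hV' : IsAffineOpen V') (hV'W : V' ≤ u ⁻¹ᵁ W) (h₁ : V' ≤ (u ≫ f) ⁻¹ᵁ U) :
    PullBC11.IsBC (N := PrinPart.grMod f' n)
      ((Scheme.Modules.pullbackPushforwardAdjunction (u ≫ f)).homEquiv _ _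
        ((ModLimH13.cmp u f rfl).inv.app (ClSub.idealMod (f.ker ^ n)) ≫ φ)) h₁ := by
  obtain ⟨U', hU'eq⟩ : ∃ U', U' = v ⁻¹ᵁ U ⊓ g' ⁻¹ᵁ V' := ⟨_, rfl⟩
  have hU' : IsAffineOpen U' := FlatH4.isAffineOpen_of_isPullback hsq hV'W hUW hU'eq hW hV' hU
  have hpo := FlatH4.isPushout_sections hsq hV'W hUW hU'eq hW hV' hU
  have hle : U' ≤ v ⁻¹ᵁ U := hU'eq ▸ inf_le_left
  have hle' : U' ≤ g' ⁻¹ᵁ V' := hU'eq ▸ inf_le_right
  have h₂ : V' = f' ⁻¹ᵁ U' := by
    subst hU'eq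
    show V' = f' ⁻¹ᵁ (v ⁻¹ᵁ U) ⊓ f' ⁻¹ᵁ (g' ⁻¹ᵁ V')
    rw [← Scheme.Hom.comp_preimage f' g', hf', ← Scheme.Hom.comp_preimage, hf'v]
    exact (inf_eq_right.2 h₁).symm
  letI a1 : Algebra Γ(Y, W) Γ(X, U) := (g.appLE W U hUW).hom.toAlgebra
  letI a2 : Algebra Γ(Y, W) Γ(Y', V') := (u.appLE W V' hV'W).hom.toAlgebra
  letI a3 : Algebra Γ(X, U) Γ(X', U') := (v.appLE U U' hle).hom.toAlgebra
  letI a4 : Algebra Γ(Y', V') Γ(X', U') := (g'.appLE V' U' hle').hom.toAlgebra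
  letI a5 : Algebra Γ(Y, W) Γ(X', U') :=
    ((algebraMap Γ(X, U) Γ(X', U')).comp (algebraMap Γ(Y, W) Γ(X, U))).toAlgebra
  haveI : IsScalarTower Γ(Y, W) Γ(X, U) Γ(X', U') := IsScalarTower.of_algebraMap_eq' rfl
  haveI : IsScalarTower Γ(Y, W) Γ(Y', V') Γ(X', U') := IsScalarTower.of_algebraMap_eq'
    (congrArg CommRingCat.Hom.hom hpo.w)
  haveI : Algebra.IsPushout Γ(Y, W) Γ(X, U) Γ(Y', V') Γ(X', U') := CommRingCat.isPushout_iff_isPushout.mp hpo
  haveI : Algebra.IsPushout Γ(Y, W) Γ(Y', V') Γ(X, U) Γ(X', U') := .symm inferInstance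
  letI a6 : Algebra Γ(X, U) Γ(Y', V') := ((u ≫ f).appLE U V' h₁).hom.toAlgebra
  haveI : IsScalarTower Γ(Y, W) Γ(X, U) Γ(Y', V') := IsScalarTower.of_algebraMap_eq fun a =>
    (appLE_comp_eq (u ≫ f) g (by rw [Category.assoc, hf, Category.comp_id]) hUW h₁ hV'W a).symm
  letI a7 : Algebra Γ(X', U') Γ(Y', V') := (f'.appLE U' V' h₂.le).hom.toAlgebra
  let I := f.ker.ideal ⟨U, hU⟩
  haveI : Module.Flat Γ(Y, W) (Γ(X, U) ⧸ I ^ n) :=
    flat_quot I n fun k hk => flat_grInQuot_of_flat g f hf k (hflat k hk) hU hW hUW hfU rfl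
  have hI : ∀ i ∈ I, algebraMap Γ(X, U) Γ(Y', V') i = 0 := fun i hi => by
    show (u ≫ f).appLE U V' h₁ i = 0
    rw [← appLE_comp_eq u f rfl hfU.le hV'W h₁, appLE_eq_zero f ⟨U, hU⟩ hfU.le hi, map_zero]
  have hI' : f'.ker.ideal ⟨U', hU'⟩ = I.map (algebraMap Γ(X, U) Γ(X', U')) := by
    rw [hker]
    exact EffCartier.comap_ideal f.ker v ⟨U, hU⟩ ⟨U', hU'⟩ hle
  have hcomp : ∀ c : Γ(X', U'), algebraMap Γ(Y', V') Γ(X', U') (algebraMap Γ(X', U') Γ(Y', V') c) - c ∈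
      f'.ker.ideal ⟨U', hU'⟩ := fun c => mem_ker_of_appLE_eq_zero f' ⟨U', hU'⟩ h₂ (by
    rw [map_sub, sub_eq_zero]
    show f'.appLE U' V' h₂.le (g'.appLE V' U' hle' (f'.appLE U' V' h₂.le c)) = _
    rw [appLE_comp_eq f' g' hf' hle' h₂.le (by intro x hx; exact hx)]
    exact appLE_id' rfl _ _)
  let M := ClSub.idealMod (f.ker ^ n)
  let M' := ClSub.idealMod (f'.ker ^ n)
  let N := (Scheme.Modules.pullback f').obj M'
  let θ : M ⟶ (Scheme.Modules.pushforward (u ≫ f)).obj N :=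
    (Scheme.Modules.pullbackPushforwardAdjunction (u ≫ f)).homEquiv _ _
      ((ModLimH13.cmp u f rfl).inv.app M ≫ φ)
  -- the image of a section of `I^n` in `I'^n`
  have hJ' : f.ker ^ n ≤ (f'.ker ^ n).map v := Scheme.IdealSheafData.le_map_iff_comap_le.2
    (by rw [hker, BlowUpExist.comap_pow])
  let im : Γ(M, U) → Γ(M', U') := fun m => M1.mres M' hle
    ((ConormalBC19.psi v (f.ker ^ n) (f'.ker ^ n) hJ').app (v ⁻¹ᵁ U) (M2.pullSec v M m))
  have him : ∀ m, M2.idealIncl (f'.ker ^ n) (im m) = algebraMap Γ(X, U) Γ(X', U') (M2.idealIncl (f.ker ^ n) m) :=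
    fun m => by
    refine (M2.idealIncl_res _ hle _).trans ?_
    rw [idealIncl_psi]
    rfl
  have hθ : ∀ m, PullBC11.sect θ h₁ m = PullBC11.sect (PP12.unitTo f' M') h₂.le (im m) := fun m =>
    adj_app f u v f' φ hφ hle h₁ h₂.le m _ _ (idealIncl_psi v (f.ker ^ n) (f'.ker ^ n) hJ' m) rfl
  letI := PullBC11.baseModule (g := f') N h₂.le
  haveI : IsScalarTower Γ(X', U') Γ(Y', V') Γ(N, V') := IsScalarTower.of_algebraMap_smul fun _ _ => rfl
  have hBC : IsBaseChange Γ(Y', V') (PullBC11.sect (PP12.unitTo f' M') h₂.le) :=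
    PP12.isBC_unit f' (M2.isQCoh_idealMod _) hU' hV' h₂.le
  have hspan : Submodule.span Γ(X', U') (Set.range im) = ⊤ := by
    apply Submodule.map_injective_of_injective (f := inclLin (f'.ker ^ n) U') (M2.idealIncl_injective _ _)
    rw [Submodule.map_span, Submodule.map_top, range_inclLin _ ⟨U', hU'⟩]
    simp only [Scheme.IdealSheafData.ideal_pow, Pi.pow_apply, hI', ← Ideal.map_pow]
    rw [Ideal.map]
    refine congrArg (Submodule.span _) ?_
    ext c
    constructor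
    · rintro ⟨_, ⟨m, rfl⟩, rfl⟩
      refine ⟨_, ?_, (him m).symm⟩
      exact ((range_inclLin (f.ker ^ n) ⟨U, hU⟩).trans (by simp [I])).le ⟨m, rfl⟩
    · rintro ⟨b, hb, rfl⟩
      obtain ⟨m, hm⟩ := ((range_inclLin (f.ker ^ n) ⟨U, hU⟩).trans (by simp [I])).ge hb
      exact ⟨im m, ⟨m, rfl⟩, (him m).trans (congrArg _ hm)⟩
  refine PullBC11.isBC_of _ h₁ (fun t => ?_) ?_
  · obtain ⟨t, rfl⟩ := hBC.equiv.surjective t
    induction t using TensorProduct.induction_on with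
    | zero => rw [map_zero]; exact zero_mem _
    | tmul a x =>
      rw [hBC.equiv_tmul]
      refine Submodule.smul_mem _ a ?_
      have hx : x ∈ Submodule.span Γ(X', U') (Set.range im) := hspan ▸ trivial
      induction hx using Submodule.span_induction with
      | mem y hy =>
        obtain ⟨m, rfl⟩ := hy
        rw [← hθ]
        exact Submodule.subset_span ⟨m, rfl⟩
      | zero => rw [map_zero]; exact zero_mem _
      | add a b _ _ ha hb => rw [map_add]; exact add_mem ha hb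
      | smul r a _ ha =>
        rw [map_smul, ← algebraMap_smul Γ(Y', V') r]
        exact Submodule.smul_mem _ _ ha
    | add a b ha hb => rw [map_add]; exact add_mem ha hb
  · letI := PullBC11.baseModule (g := u ≫ f) N h₁
    haveI : IsScalarTower Γ(X, U) Γ(Y', V') Γ(N, V') := IsScalarTower.of_algebraMap_smul fun _ _ => rfl
    intro z hz
    let J := (I ^ (n + 1)).map (algebraMap Γ(X, U) Γ(X', U'))
    let B₀ : Γ(Y', V') →+ Γ(M', U') →+ Γ(X', U') ⧸ J :=
      { toFun := fun a => AddMonoidHom.mk'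
          (fun x => Ideal.Quotient.mk J (algebraMap Γ(Y', V') Γ(X', U') a * M2.idealIncl (f'.ker ^ n) x))
          (fun x y => by rw [M2.idealIncl_add, mul_add, map_add])
        map_zero' := by ext x; simp
        map_add' := fun a b => by ext x; simp [add_mul] }
    let Ψ : Γ(Y', V') ⊗[Γ(X', U')] Γ(M', U') →+ Γ(X', U') ⧸ J :=
      TensorProduct.liftAddHom B₀ fun r a x => by
        show Ideal.Quotient.mk J (algebraMap _ _ (r • a) * _) = Ideal.Quotient.mk J (_ * M2.idealIncl _ (r • x))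
        rw [Algebra.smul_def, M2.idealIncl_smul, Ideal.Quotient.eq, map_mul]
        have hx : M2.idealIncl (f'.ker ^ n) x ∈ f'.ker.ideal ⟨U', hU'⟩ ^ n :=
          ((range_inclLin (f'.ker ^ n) ⟨U', hU'⟩).trans (by simp)).le ⟨x, rfl⟩
        have hm := Ideal.mul_mem_left _ (algebraMap Γ(Y', V') Γ(X', U') a) (Ideal.mul_mem_mul (hcomp r) hx)
        rw [← pow_succ', hI', ← Ideal.map_pow] at hm
        refine Eq.mp (congrArg (· ∈ J) ?_) hm
        ring
    let Φ : Γ(Y', V') ⊗[Γ(X, U)] Γ(M, U) →+ Γ(X', U') ⧸ J :=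
      Ψ.comp (hBC.equiv.symm.toLinearMap.toAddMonoidHom.comp ((PullBC11.sect θ h₁).liftBaseChange Γ(Y', V')).toAddMonoidHom)
    refine injective_gr (A := Γ(Y, W)) (A' := Γ(Y', V')) (B' := Γ(X', U')) I n hI (inclLin (f.ker ^ n) U) (M2.idealIncl_injective _ _)
      ((range_inclLin (f.ker ^ n) ⟨U, hU⟩).trans (by simp [I])) Φ (fun a m => ?_) z ?_
    · show Ψ (hBC.equiv.symm (((PullBC11.sect θ h₁).liftBaseChange Γ(Y', V')) (a ⊗ₜ m))) = _
      rw [LinearMap.liftBaseChange_tmul, map_smul, hθ, IsBaseChange.equiv_symm_apply, TensorProduct.smul_tmul',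
        smul_eq_mul, mul_one]
      show Ideal.Quotient.mk J (_ * M2.idealIncl _ (im m)) = _
      rw [him]
      rfl
    · show Ψ (hBC.equiv.symm (((PullBC11.sect θ h₁).liftBaseChange Γ(Y', V')) z)) = 0
      rw [show ((PullBC11.sect θ h₁).liftBaseChange Γ(Y', V')) z = 0 from hz, map_zero, map_zero]

/-- Flat graded pieces of a section commute with base change. -/
theorem isIso_grMap_section_of_flat (hf : f ≫ g = 𝟙 Y) (hsq : IsPullback v g' g u) (hf' : f' ≫ g' = 𝟙 Y')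
    (hf'v : f' ≫ v = u ≫ f) {n : ℕ} (hflat : ∀ k < n, FlatMod.IsFlat (PrinPart.grMod f k))
    (φ : (Scheme.Modules.pullback u).obj (PrinPart.grMod f n) ⟶ PrinPart.grMod f' n)
    (hφ : PrinPart.IsGrMap f' f v u n φ) : IsIso φ := by
  have hsec := isPullback_section g f hf u v g' hsq f' hf' hf'v
  haveI : IsClosedImmersion f' := MorphismProperty.of_isPullback hsec inferInstance
  let M := ClSub.idealMod (f.ker ^ n)
  have hiso := PullBC11.isIso_of_isBC
    ((Scheme.Modules.pullbackPushforwardAdjunction (u ≫ f)).homEquiv _ _ ((ModLimH13.cmp u f rfl).inv.app M ≫ φ))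
    (M2.isQCoh_idealMod _) (M1.isQCoh_pullback f' (M2.isQCoh_idealMod _)) fun y' => by
      obtain ⟨W, U, hW, hU, hy, hUW, hfU⟩ := exists_chart g f hf (u y')
      obtain ⟨V', hV', hy', hV'W⟩ := exists_isAffineOpen_mem_and_subset (X := Y') (x := y') (U := u ⁻¹ᵁ W) hy
      have hV'W : V' ≤ u ⁻¹ᵁ W := hV'W
      have h₁ : V' ≤ (u ≫ f) ⁻¹ᵁ U := fun y hy => by
        have := hV'W hy
        rw [hfU] at this
        exact this
      exact ⟨U, hU, V', hV', h₁, hy', isBC_adj g f u v g' f' hf hsq hf' hf'v hflat φ hφ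
        (FormalH7.ker_of_isPullback hsec.flip) hW hU hUW hfU hV' hV'W h₁⟩
  rw [Equiv.symm_apply_apply] at hiso
  exact IsIso.of_isIso_comp_left ((ModLimH13.cmp u f rfl).inv.app M) φ

end Groth.Agent.GrMap12
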