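import Groth.Agent.Lib.Omega12.ImmersionSeq
import Groth.Agent.Lib.Omega12.Unram
import Groth.Agent.Lib.Omega12.Transitive
import Groth.Agent.Lib.GrMap12.Conormal

/-!
# The sequence `C_{Z/Y} ⟶ C_{Z/X} ⟶ i^* Ω_{X/Y} ⟶ 0`
-/

set_option autoImplicit false
set_option backward.isDefEq.respectTransparency false
set_option backward.isDefEq.respectTransparency.types false
set_option linter.style.haveILetI false

universe u

open CategoryTheory CategoryTheory.Limits AlgebraicGeometry TopologicalSpace Opposite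

namespace Groth.Agent.GrMap12

variable {Z X Y : Scheme.{u}} {i : Z ⟶ X} {p : X ⟶ Y} {j : Z ⟶ Y}

theorem mem_preimage_of_comp (w : i ≫ p = j) (V : Y.Opens) (z : Z) : j z ∈ V ↔ i z ∈ p ⁻¹ᵁ V := by
  subst w; rfl

theorem germ_app_comp (w : i ≫ p = j) {V : Y.Opens} {W : X.Opens} (hW : W ≤ p ⁻¹ᵁ V) (z : Z) (hz : i z ∈ W)
    (hz' : j z ∈ V) (b : Γ(Y, V)) :
    Z.presheaf.germ (i ⁻¹ᵁ W) z hz (i.app W (p.appLE V W hW b)) =
      Z.presheaf.germ (j ⁻¹ᵁ V) z hz' (j.app V b) := by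
  subst w
  rw [← Scheme.Hom.germ_stalkMap_apply, Scheme.Hom.appLE, CommRingCat.comp_apply, TopCat.Presheaf.germ_res_apply,
    Scheme.Hom.germ_stalkMap_apply]
  rfl

/-- An ideal section of `Z` in `Y` gives one of `Z` in `X`. -/
theorem exists_lift_idealSect (w : i ≫ p = j) {V : Y.Opens} (s : Γ(ClSub.idealMod j.ker, V)) :
    ∃ t : Γ(ClSub.idealMod i.ker, p ⁻¹ᵁ V), M2.idealIncl i.ker t = p.app V (M2.idealIncl j.ker s) := by
  have h : j.ker ≤ i.ker.map p := ker_le_map (gZ := 𝟙 Z) (by rw [Category.id_comp, w])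
  exact ⟨_, idealIncl_psi p j.ker i.ker h s⟩

theorem app_idealIncl_eq_zero (i : Z ⟶ X) {W : X.Opens} (s : Γ(ClSub.idealMod i.ker, W)) :
    i.app W (M2.idealIncl i.ker s) = 0 := by
  refine ConormalBC19.app_eq_zero_of_eq (Scheme.Hom.toImage_imageι i) ?_
  rw [Scheme.Hom.comp_app, CommRingCat.comp_apply]
  show i.toImage.app _ (i.ker.subschemeι.app W (M2.idealIncl i.ker s)) = 0
  rw [M2.subschemeι_app_idealIncl, map_zero]

variable (i) (p) in
/-- The data `a - p♯ b` in the ideal near a point. -/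
structure Datum (U : X.Opens) (a : Γ(X, U)) (z : Z) where
  V : Y.Opens
  b : Γ(Y, V)
  W : X.Opens
  hWU : W ≤ U
  hWV : W ≤ p ⁻¹ᵁ V
  mem : i z ∈ W
  s : Γ(ClSub.idealMod i.ker, W)
  eq : M2.idealIncl i.ker s = X.presheaf.map (homOfLE hWU).op a - p.appLE V W hWV b

theorem nonempty_datum [IsImmersion i] [QuasiCompact i] [IsImmersion j] (w : i ≫ p = j) {U : X.Opens} (a : Γ(X, U))
    {z : Z} (hz : i z ∈ U) : Nonempty (Datum i p U a z) := by
  obtain ⟨V, b, hzV, he⟩ := Omega12.exists_app_eq_res j (U := i ⁻¹ᵁ U) hz (i.app U a)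
  let W₀ := U ⊓ p ⁻¹ᵁ V
  have hz₀ : i z ∈ W₀ := ⟨hz, (mem_preimage_of_comp w V z).1 hzV⟩
  obtain ⟨W, hW, hzW, s, hs⟩ := Omega12.exists_idealSect_of_germ_eq_zero i hz₀
    (X.presheaf.map (homOfLE (inf_le_left : W₀ ≤ U)).op a - p.appLE V W₀ inf_le_right b) (by
      rw [map_sub, map_sub, germ_app_comp w inf_le_right z hz₀ hzV, he, ← Scheme.Hom.germ_stalkMap_apply,
        TopCat.Presheaf.germ_res_apply, Scheme.Hom.germ_stalkMap_apply, sub_self])
  refine ⟨⟨V, b, W, hW.trans inf_le_left, hW.trans inf_le_right, hzW, s, hs.trans ?_⟩⟩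
  rw [map_sub, ← CategoryTheory.comp_apply, ← Functor.map_comp, ← CategoryTheory.comp_apply, Scheme.Hom.appLE_map]
  rfl

variable {F : Z.Modules} (β : Omega.conormal i ⟶ F)

/-- `β` on an ideal section, as a germ. -/
noncomputable def bval {W : X.Opens} (s : Γ(ClSub.idealMod i.ker, W)) (z : Z) (hz : i z ∈ W) :
    ((F.presheaf.stalk z : AddCommGrpCat.{u}) : Type u) :=
  F.presheaf.germ (i ⁻¹ᵁ W) z hz (β.app (i ⁻¹ᵁ W) (OmegaSh.conormalSect i W s))

theorem bval_res {W W' : X.Opens} (h : W' ≤ W) (s : Γ(ClSub.idealMod i.ker, W)) (z : Z) (hz : i z ∈ W') :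
    bval β (M1.mres _ h s) z hz = bval β s z (h hz) := by
  have e : OmegaSh.conormalSect i W' (M1.mres _ h s) =
      M1.mres (Omega.conormal i) (i.preimage_mono h) (OmegaSh.conormalSect i W s) :=
    M1.app_mres ((Scheme.Modules.pullbackPushforwardAdjunction i).unit.app (ClSub.idealMod i.ker)) h s
  rw [bval, e, M1.app_mres, M1.germ_mres]
  rfl

theorem bval_add {W : X.Opens} (s t : Γ(ClSub.idealMod i.ker, W)) (z : Z) (hz : i z ∈ W) :
    bval β (s + t) z hz = bval β s z hz + bval β t z hz := by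
  show F.presheaf.germ _ z hz (β.app _ (OmegaSh.conormalSect i W (s + t))) = _
  rw [map_add (OmegaSh.conormalSect i W).hom]
  exact (congrArg _ (map_add (β.app (i ⁻¹ᵁ W)).hom _ _)).trans (map_add (F.presheaf.germ (i ⁻¹ᵁ W) z hz).hom _ _)

theorem bval_smul {W : X.Opens} (c : Γ(X, W)) (s : Γ(ClSub.idealMod i.ker, W)) (z : Z) (hz : i z ∈ W) :
    bval β (c • s) z hz = Z.presheaf.germ (i ⁻¹ᵁ W) z hz (i.app W c) • bval β s z hz := by
  show F.presheaf.germ _ z hz (β.app _ (OmegaSh.conormalSect i W (c • s))) = _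
  refine (congrArg (fun y => F.presheaf.germ (i ⁻¹ᵁ W) z hz (β.app _ y))
    (M2.pullSec_smul i (ClSub.idealMod i.ker) c s)).trans ?_
  rw [Scheme.Modules.Hom.app_smul]
  exact M1.germ_smul F hz _ _

/-- The vanishing of `β` on the image of the ideal of `Z` in `Y`. -/
def KillsImage (j : Z ⟶ Y) (p : X ⟶ Y) : Prop :=
  ∀ (V : Y.Opens) (s' : Γ(ClSub.idealMod j.ker, V)) (t : Γ(ClSub.idealMod i.ker, p ⁻¹ᵁ V)),
    M2.idealIncl i.ker t = p.app V (M2.idealIncl j.ker s') → ∀ z (hz : i z ∈ p ⁻¹ᵁ V), bval β t z hz = 0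

variable [IsImmersion j] [QuasiCompact j]

theorem datum_wd (w : i ≫ p = j) (hβ : KillsImage β j p) {U : X.Opens} {a : Γ(X, U)} {z : Z}
    (D D' : Datum i p U a z) : bval β D.s z D.mem = bval β D'.s z D'.mem := by
  let W := D.W ⊓ D'.W
  have hzW : i z ∈ W := ⟨D.mem, D'.mem⟩
  let V := D.V ⊓ D'.V
  have hzV : j z ∈ V := ⟨(mem_preimage_of_comp w D.V z).2 (D.hWV D.mem), (mem_preimage_of_comp w D'.V z).2 (D'.hWV D'.mem)⟩
  have hWV : W ≤ p ⁻¹ᵁ V := fun x hx => ⟨D.hWV hx.1, D'.hWV hx.2⟩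
  let d : Γ(Y, V) := Y.presheaf.map (homOfLE (inf_le_right : V ≤ D'.V)).op D'.b -
    Y.presheaf.map (homOfLE (inf_le_left : V ≤ D.V)).op D.b
  let σ := M1.mres (ClSub.idealMod i.ker) (inf_le_left : W ≤ D.W) D.s -
    M1.mres (ClSub.idealMod i.ker) (inf_le_right : W ≤ D'.W) D'.s
  have hres : ∀ {T : X.Opens} (E : Datum i p U a z) (hT : T ≤ E.W),
      M2.idealIncl i.ker (M1.mres (ClSub.idealMod i.ker) hT E.s) =
        X.presheaf.map (homOfLE (hT.trans E.hWU)).op a - p.appLE E.V T (hT.trans E.hWV) E.b := fun E hT => by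
    refine (M2.idealIncl_res i.ker hT _).trans ?_
    rw [E.eq, map_sub, ← CategoryTheory.comp_apply, ← Functor.map_comp, ← CategoryTheory.comp_apply,
      Scheme.Hom.appLE_map]
    rfl
  have hσ : M2.idealIncl i.ker σ = p.appLE V W hWV d := by
    show ((ClSub.idealModι i.ker).app W).hom (_ - _) = p.appLE V W hWV (_ - _)
    rw [map_sub, map_sub]
    show M2.idealIncl i.ker _ - M2.idealIncl i.ker _ = _
    rw [hres D, hres D', ← CategoryTheory.comp_apply, ← CategoryTheory.comp_apply, Scheme.Hom.map_appLE,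
      Scheme.Hom.map_appLE]
    abel
  have hd : Z.presheaf.germ (j ⁻¹ᵁ V) z hzV (j.app V d) = 0 := by
    rw [← germ_app_comp w hWV z hzW hzV, ← hσ, app_idealIncl_eq_zero, map_zero]
  obtain ⟨V₁, hV₁, hzV₁, s', hs'⟩ := Omega12.exists_idealSect_of_germ_eq_zero j hzV d hd
  obtain ⟨t, ht⟩ := exists_lift_idealSect w s'
  let W₁ := W ⊓ p ⁻¹ᵁ V₁
  have hzW₁ : i z ∈ W₁ := ⟨hzW, (mem_preimage_of_comp w V₁ z).1 hzV₁⟩
  have hσt : M1.mres (ClSub.idealMod i.ker) (inf_le_left : W₁ ≤ W) σ =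
      M1.mres (ClSub.idealMod i.ker) (inf_le_right : W₁ ≤ p ⁻¹ᵁ V₁) t := by
    refine M2.idealIncl_injective i.ker W₁ ?_
    refine (M2.idealIncl_res i.ker inf_le_left σ).trans ?_
    refine Eq.trans ?_ (M2.idealIncl_res i.ker inf_le_right t).symm
    rw [hσ, ht, hs', ← CategoryTheory.comp_apply, Scheme.Hom.appLE_map]
    show _ = (p.appLE V₁ W₁ inf_le_right) (Y.presheaf.map (homOfLE hV₁).op d)
    rw [← CategoryTheory.comp_apply, Scheme.Hom.map_appLE]
  have h0 : bval β σ z hzW = 0 := by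
    rw [← bval_res β (inf_le_left : W₁ ≤ W) σ z hzW₁, hσt, bval_res]
    exact hβ V₁ s' t ht z _
  have h1 : bval β (M1.mres (ClSub.idealMod i.ker) (inf_le_left : W ≤ D.W) D.s) z hzW =
      bval β σ z hzW + bval β (M1.mres (ClSub.idealMod i.ker) (inf_le_right : W ≤ D'.W) D'.s) z hzW := by
    rw [← bval_add, sub_add_cancel]
  rw [bval_res, bval_res, h0, zero_add] at h1
  exact h1

variable [IsImmersion i] [QuasiCompact i]

theorem exists_derivation (w : i ≫ p = j) (hβ : KillsImage β j p) :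
    ∃ E : OmegaSh.Der p ((Scheme.Modules.pushforward i).obj F),
      ∀ (W : X.Opens) (s : Γ(ClSub.idealMod i.ker, W)),
        E.app W (M2.idealIncl i.ker s) = β.app (i ⁻¹ᵁ W) (OmegaSh.conormalSect i W s) := by
  classical
  let val : ∀ (U : X.Opens) (a : Γ(X, U)) (z : Z), z ∈ i ⁻¹ᵁ U → ((F.presheaf.stalk z : AddCommGrpCat.{u}) : Type u) :=
    fun U a z hz => bval β (nonempty_datum w a hz).some.s z (nonempty_datum w a hz).some.mem
  have hval : ∀ (U : X.Opens) (a : Γ(X, U)) (z : Z) (hz : z ∈ i ⁻¹ᵁ U) (D : Datum i p U a z),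
      val U a z hz = bval β D.s z D.mem := fun U a z hz D => datum_wd β w hβ _ D
  have glue : ∀ (U : X.Opens) (a : Γ(X, U)), ∃ σ : Γ(F, i ⁻¹ᵁ U),
      ∀ z (hz : z ∈ i ⁻¹ᵁ U), F.presheaf.germ (i ⁻¹ᵁ U) z hz σ = val U a z hz := fun U a => by
    let D : ∀ z : (i ⁻¹ᵁ U : Z.Opens), Datum i p U a z.1 := fun z => (nonempty_datum w a z.2).some
    let O : (i ⁻¹ᵁ U : Z.Opens) → Z.Opens := fun z => i ⁻¹ᵁ (D z).W
    have hO : ∀ z, O z ≤ i ⁻¹ᵁ U := fun z => i.preimage_mono (D z).hWU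
    let σ : ∀ z, Γ(F, O z) := fun z => β.app (O z) (OmegaSh.conormalSect i (D z).W (D z).s)
    have hσ : ∀ z y (hy : y ∈ O z), F.presheaf.germ (O z) y hy (σ z) = val U a y (hO z hy) := fun z y hy =>
      (hval U a y (hO z hy) ⟨(D z).V, (D z).b, (D z).W, (D z).hWU, (D z).hWV, hy, (D z).s, (D z).eq⟩).symm
    obtain ⟨τ, hτ, -⟩ := TopCat.Sheaf.existsUnique_gluing' ⟨_, F.isSheaf⟩ O (i ⁻¹ᵁ U)
      (fun z => homOfLE (hO z)) (fun z hz => Opens.mem_iSup.2 ⟨⟨z, hz⟩, (D ⟨z, hz⟩).mem⟩) σ (fun z₁ z₂ => by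
        refine M1.section_ext _ _ fun y hy => ?_
        refine (TopCat.Presheaf.germ_res_apply F.presheaf (homOfLE inf_le_left) y hy (σ z₁)).trans ?_
        refine Eq.trans ?_ (TopCat.Presheaf.germ_res_apply F.presheaf (homOfLE inf_le_right) y hy (σ z₂)).symm
        exact (hσ z₁ y hy.1).trans (hσ z₂ y hy.2).symm)
    refine ⟨τ, fun z hz => ?_⟩
    rw [← hσ ⟨z, hz⟩ z (D ⟨z, hz⟩).mem, ← hτ ⟨z, hz⟩]
    exact (TopCat.Presheaf.germ_res_apply F.presheaf (homOfLE (hO ⟨z, hz⟩)) z (D ⟨z, hz⟩).mem τ).symm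
  choose e he using glue
  have e_eq : ∀ (U : X.Opens) (a : Γ(X, U)) (σ : Γ(F, i ⁻¹ᵁ U)),
      (∀ z (hz : z ∈ i ⁻¹ᵁ U), ∃ D : Datum i p U a z, F.presheaf.germ (i ⁻¹ᵁ U) z hz σ = bval β D.s z D.mem) →
      e U a = σ := fun U a σ h => M1.section_ext _ _ fun z hz => by
    obtain ⟨D, hD⟩ := h z hz
    rw [he, hD, hval U a z hz D]
  have pair : ∀ (U : X.Opens) (a c : Γ(X, U)) (z : Z) (hz : z ∈ i ⁻¹ᵁ U),
      ∃ (V : Y.Opens) (b b' : Γ(Y, V)) (W : X.Opens) (hWU : W ≤ U) (hWV : W ≤ p ⁻¹ᵁ V) (_ : i z ∈ W)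
        (s s' : Γ(ClSub.idealMod i.ker, W)),
        M2.idealIncl i.ker s = X.presheaf.map (homOfLE hWU).op a - p.appLE V W hWV b ∧
        M2.idealIncl i.ker s' = X.presheaf.map (homOfLE hWU).op c - p.appLE V W hWV b' := fun U a c z hz => by
    obtain ⟨D⟩ := nonempty_datum (i := i) w a (z := z) hz
    obtain ⟨D'⟩ := nonempty_datum (i := i) w c (z := z) hz
    refine ⟨D.V ⊓ D'.V, Y.presheaf.map (homOfLE inf_le_left).op D.b, Y.presheaf.map (homOfLE inf_le_right).op D'.b,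
      D.W ⊓ D'.W, inf_le_left.trans D.hWU, (fun x hx => ⟨D.hWV hx.1, D'.hWV hx.2⟩), ⟨D.mem, D'.mem⟩,
      M1.mres _ inf_le_left D.s, M1.mres _ inf_le_right D'.s, ?_, ?_⟩
    · refine (M2.idealIncl_res i.ker inf_le_left _).trans ?_
      rw [D.eq, map_sub, ← CategoryTheory.comp_apply, ← Functor.map_comp, ← CategoryTheory.comp_apply,
        Scheme.Hom.appLE_map, ← CategoryTheory.comp_apply, Scheme.Hom.map_appLE]
      rfl
    · refine (M2.idealIncl_res i.ker inf_le_right _).trans ?_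
      rw [D'.eq, map_sub, ← CategoryTheory.comp_apply, ← Functor.map_comp, ← CategoryTheory.comp_apply,
        Scheme.Hom.appLE_map, ← CategoryTheory.comp_apply, Scheme.Hom.map_appLE]
      rfl
  have e_add : ∀ (U : X.Opens) (a c : Γ(X, U)), e U (a + c) = e U a + e U c := fun U a c =>
    e_eq U _ _ fun z hz => by
      obtain ⟨V, b, b', W, hWU, hWV, hzW, s, s', hs, hs'⟩ := pair U a c z hz
      refine ⟨⟨V, b + b', W, hWU, hWV, hzW, s + s', by rw [M2.idealIncl_add, hs, hs', map_add, map_add]; abel⟩, ?_⟩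
      rw [bval_add, map_add, he, he, hval U a z hz ⟨V, b, W, hWU, hWV, hzW, s, hs⟩,
        hval U c z hz ⟨V, b', W, hWU, hWV, hzW, s', hs'⟩]
  let E : OmegaSh.Der p ((Scheme.Modules.pushforward i).obj F) :=
    { d := fun {U} => AddMonoidHom.mk' (e U.unop) (e_add U.unop)
      d_mul := fun {U} a c => by
        let O := U.unop
        show e O ((show Γ(X, O) from a) * c) = i.app O a • e O c + i.app O c • e O a
        refine e_eq _ _ _ fun z hz => ?_
        obtain ⟨V, b, b', W, hWU, hWV, hzW, s, s', hs, hs'⟩ := pair O a c z hz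
        refine ⟨⟨V, b * b', W, hWU, hWV, hzW, X.presheaf.map (homOfLE hWU).op a • s' + p.appLE V W hWV b' • s, ?_⟩, ?_⟩
        · rw [M2.idealIncl_add, M2.idealIncl_smul, M2.idealIncl_smul, hs, hs', map_mul, map_mul]
          ring
        · rw [bval_add, bval_smul, bval_smul]
          refine (map_add (F.presheaf.germ (i ⁻¹ᵁ O) z hz).hom _ _).trans ?_
          have ec : Z.presheaf.germ (i ⁻¹ᵁ W) z hzW (i.app W (p.appLE V W hWV b')) =
              Z.presheaf.germ (i ⁻¹ᵁ O) z hz (i.app O c) := by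
            have h := congrArg (fun t => Z.presheaf.germ (i ⁻¹ᵁ W) z hzW (i.app W t)) hs'
            simp only [app_idealIncl_eq_zero, map_zero, map_sub] at h
            rw [eq_comm, sub_eq_zero] at h
            rw [← h, ← Scheme.Hom.germ_stalkMap_apply, TopCat.Presheaf.germ_res_apply, Scheme.Hom.germ_stalkMap_apply]
          have ea : Z.presheaf.germ (i ⁻¹ᵁ W) z hzW (i.app W (X.presheaf.map (homOfLE hWU).op a)) =
              Z.presheaf.germ (i ⁻¹ᵁ O) z hz (i.app O a) := by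
            rw [← Scheme.Hom.germ_stalkMap_apply, TopCat.Presheaf.germ_res_apply, Scheme.Hom.germ_stalkMap_apply]
          rw [ea, ec, ← hval O c z hz ⟨V, b', W, hWU, hWV, hzW, s', hs'⟩, ← hval O a z hz ⟨V, b, W, hWU, hWV, hzW, s, hs⟩,
            ← he O c z hz, ← he O a z hz]
          exact congrArg₂ (· + ·) (M1.germ_smul F hz _ _) (M1.germ_smul F hz _ _)
      d_map := fun {U U'} k a => by
        show e U'.unop (X.presheaf.map k a) = M1.mres F (i.preimage_mono k.unop.le) (e U.unop a)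
        refine e_eq _ _ _ fun z hz => ?_
        obtain ⟨D⟩ := nonempty_datum (i := i) w (X.presheaf.map k a) (z := z) hz
        refine ⟨D, ?_⟩
        rw [M1.germ_mres F (i.preimage_mono k.unop.le) hz, he]
        refine hval U.unop a z (k.unop.le hz) ⟨D.V, D.b, D.W, D.hWU.trans k.unop.le, D.hWV, D.mem, D.s, D.eq.trans ?_⟩
        rw [← CategoryTheory.comp_apply, ← Functor.map_comp]
        rfl
      d_app := fun {V} c => by
        show e (p ⁻¹ᵁ V.unop) (p.app V.unop c) = 0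
        refine e_eq _ _ _ fun z hz => ⟨⟨V.unop, c, p ⁻¹ᵁ V.unop, le_rfl, le_rfl, hz, 0, ?_⟩, ?_⟩
        · rw [M2.idealIncl, map_zero]
          refine (sub_eq_zero.2 ?_).symm
          rw [← Scheme.Hom.app_eq_appLE]
          exact ConcreteCategory.congr_hom (X.presheaf.map_id _) _
        · refine (map_zero (F.presheaf.germ (i ⁻¹ᵁ (p ⁻¹ᵁ V.unop)) z hz).hom).trans ?_
          symm
          exact (congrArg (fun y => F.presheaf.germ _ z hz (β.app _ y))
            (map_zero (OmegaSh.conormalSect i (p ⁻¹ᵁ V.unop)).hom)).trans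
            ((congrArg _ (map_zero (β.app _).hom)).trans (map_zero _)) }
  refine ⟨E, fun W s => e_eq _ _ _ fun z hz => ?_⟩
  obtain ⟨V, hzV⟩ : ∃ V : Y.Opens, W ≤ p ⁻¹ᵁ V := ⟨⊤, fun _ _ => trivial⟩
  refine ⟨⟨⊤, 0, W, le_rfl, fun _ _ => trivial, hz, s, ?_⟩, rfl⟩
  rw [map_zero, sub_zero]
  exact (ConcreteCategory.congr_hom (X.presheaf.map_id (op W)) _).symm

variable {Ω : X.Modules} {d : OmegaSh.Der p Ω}

/-- The exact sequence. -/
theorem exact_relative (w : i ≫ p = j) (hd : OmegaSh.IsUniversal d)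
    (ψ : (Scheme.Modules.pullback (𝟙 Z)).obj (Omega.conormal j) ⟶ Omega.conormal i)
    (hψ : OmegaSh.IsConormalMap i j p (𝟙 Z) ψ)
    (φ : Omega.conormal i ⟶ (Scheme.Modules.pullback i).obj Ω) (hφ : OmegaSh.IsConormalDiff i d φ) :
    ∃ h0 : ψ ≫ φ = 0, (ShortComplex.mk ψ φ h0).Exact ∧ Epi φ := by
  let adj := fun {X' Y' : Scheme.{u}} (g : X' ⟶ Y') => Scheme.Modules.pullbackPushforwardAdjunction g
  have hgen : ∀ (V : Y.Opens) (s' : Γ(ClSub.idealMod j.ker, V)) (t : Γ(ClSub.idealMod i.ker, p ⁻¹ᵁ V)),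
      M2.idealIncl i.ker t = p.app V (M2.idealIncl j.ker s') → ∀ (h : i ⁻¹ᵁ (p ⁻¹ᵁ V) ≤ (𝟙 Z) ⁻¹ᵁ (j ⁻¹ᵁ V)),
      M1.mres (Omega.conormal i) h
          (ψ.app ((𝟙 Z) ⁻¹ᵁ (j ⁻¹ᵁ V)) (OmegaSh.pullSect (𝟙 Z) _ (j ⁻¹ᵁ V) (OmegaSh.conormalSect j V s'))) =
        OmegaSh.conormalSect i (p ⁻¹ᵁ V) t := fun V s' t ht h =>
    (hψ.2 V s' t ht (i ⁻¹ᵁ (p ⁻¹ᵁ V)) h le_rfl).trans
      (ConcreteCategory.congr_hom ((Omega.conormal i).presheaf.map_id _) _)
  have hjp : ∀ V : Y.Opens, (𝟙 Z) ⁻¹ᵁ (j ⁻¹ᵁ V) = i ⁻¹ᵁ (p ⁻¹ᵁ V) := fun V => by subst w; rfl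
  have h0 : ψ ≫ φ = 0 := by
    apply ((adj (𝟙 Z)).homEquiv _ _).injective
    apply ((adj j).homEquiv _ _).injective
    ext V s'
    simp only [Adjunction.homEquiv_unit, Functor.map_zero, comp_zero]
    show φ.app ((𝟙 Z) ⁻¹ᵁ (j ⁻¹ᵁ V))
      (ψ.app ((𝟙 Z) ⁻¹ᵁ (j ⁻¹ᵁ V)) (OmegaSh.pullSect (𝟙 Z) _ (j ⁻¹ᵁ V) (OmegaSh.conormalSect j V s'))) = 0
    obtain ⟨t, ht⟩ := exists_lift_idealSect (i := i) w s'
    refine M1.section_ext _ _ fun z hz => ?_
    have hz' : z ∈ i ⁻¹ᵁ (p ⁻¹ᵁ V) := (hjp V).le hz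
    rw [← M1.germ_mres _ (hjp V).ge hz', ← M1.app_mres, hgen V s' t ht]
    rw [hφ (p ⁻¹ᵁ V) t]
    refine (congrArg _ (congrArg (OmegaSh.pullSect i Ω (p ⁻¹ᵁ V)) ?_)).trans
      ((congrArg _ (map_zero (OmegaSh.pullSect i Ω (p ⁻¹ᵁ V)).hom)).trans ((map_zero _).trans (map_zero _).symm))
    show d.app (p ⁻¹ᵁ V) (M2.idealIncl i.ker t) = 0
    rw [ht]
    exact d.d_app (X := op V) _
  haveI : FormallyUnramified (i ≫ p) := by rw [w]; infer_instance
  haveI hepi : Epi φ := ⟨fun {F} a b hab => sub_eq_zero.1 (by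
    have hα : φ ≫ (a - b) = 0 := by rw [Preadditive.comp_sub, hab, sub_self]
    let α' := (adj i).homEquiv _ _ (a - b)
    have hα' : ∀ (V : X.Opens) (m : Γ(Ω, V)), α'.app V m = (a - b).app (i ⁻¹ᵁ V) (OmegaSh.pullSect i Ω V m) :=
      fun V m => by
      show ((adj i).homEquiv _ _ (a - b)).app V m = _
      rw [Adjunction.homEquiv_unit]; rfl
    obtain ⟨E, hE⟩ := Omega12.exists_descend i (d.postcomp α'.val) (fun W s => by
      show α'.app W (d.app W (M2.idealIncl i.ker s)) = 0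
      refine (hα' _ _).trans ?_
      show (a - b).app (i ⁻¹ᵁ W) (OmegaSh.pullSect i Ω W (d.app W (OmegaSh.idealSect i.ker W s))) = 0
      rw [← hφ W s]
      exact congrArg (fun ψ => Scheme.Modules.Hom.app ψ (i ⁻¹ᵁ W) (OmegaSh.conormalSect i W s)) hα)
    apply ((adj i).homEquiv _ _).injective
    refine Omega12.hom_ext_der _ hd fun V s => ?_
    refine ((hE V s).symm.trans ((Omega12.formallyUnramified_iff_der_eq_zero (i ≫ p)).1 inferInstance F E _ _)).trans ?_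
    simp [Adjunction.homEquiv_unit])⟩
  have hfac : ∀ (F : Z.Modules) (β : Omega.conormal i ⟶ F), ψ ≫ β = 0 →
      ∃ α : (Scheme.Modules.pullback i).obj Ω ⟶ F, φ ≫ α = β := fun F β hβ => by
    have hk : KillsImage β j p := fun V s' t ht z hz => by
      rw [bval, ← hgen V s' t ht (hjp V).ge, M1.app_mres]
      rw [show β.app _ (ψ.app ((𝟙 Z) ⁻¹ᵁ (j ⁻¹ᵁ V)) (OmegaSh.pullSect (𝟙 Z) _ (j ⁻¹ᵁ V) (OmegaSh.conormalSect j V s'))) =
        (0 : Γ(F, (𝟙 Z) ⁻¹ᵁ (j ⁻¹ᵁ V))) from congrArg (fun χ => Scheme.Modules.Hom.app χ ((𝟙 Z) ⁻¹ᵁ (j ⁻¹ᵁ V))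
          (OmegaSh.pullSect (𝟙 Z) _ (j ⁻¹ᵁ V) (OmegaSh.conormalSect j V s'))) hβ, map_zero]
      exact map_zero _
    obtain ⟨E, hE⟩ := exists_derivation β w hk
    obtain ⟨u, hu, -⟩ := hd _ E
    refine ⟨((adj i).homEquiv _ _).symm u, ((adj i).homEquiv _ _).injective ?_⟩
    ext V s
    simp only [Adjunction.homEquiv_unit, Functor.map_comp]
    show (((adj i).homEquiv _ _).symm u).app (i ⁻¹ᵁ V) (φ.app (i ⁻¹ᵁ V) (OmegaSh.conormalSect i V s)) =
      β.app (i ⁻¹ᵁ V) (OmegaSh.conormalSect i V s)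
    rw [hφ V s]
    refine Eq.trans ?_ (hE V s)
    refine Eq.trans ?_ (congrArg (fun G => OmegaSh.Der.app G V (M2.idealIncl i.ker s)) hu)
    refine Eq.trans ?_ (congrArg (fun χ => Scheme.Modules.Hom.app χ V (d.app V (M2.idealIncl i.ker s)))
      (((adj i).homEquiv _ _).apply_symm_apply u))
    rw [Adjunction.homEquiv_unit]
    rfl
  exact ⟨h0, ShortComplex.exact_of_g_is_cokernel _ (CokernelCofork.IsColimit.ofπ _ _
    (fun β hβ => (hfac _ β hβ).choose) (fun β hβ => (hfac _ β hβ).choose_spec)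
    (fun β hβ m hm => (cancel_epi φ).1 (hm.trans (hfac _ β hβ).choose_spec.symm))), hepi⟩

end Groth.Agent.GrMap12
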