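import Groth.Agent.Lib.GrMap12.Split
import Groth.Agent.Lib.Omega12.Transitive
import Mathlib.CategoryTheory.Abelian.Exact
import Groth.Prelude.Def_Omega3

/-!
# The sequence of conormal sheaves of a composition of immersions
-/

set_option autoImplicit false
set_option backward.isDefEq.respectTransparency false
set_option backward.isDefEq.respectTransparency.types false
set_option linter.style.haveILetI false

universe u

open CategoryTheory CategoryTheory.Limits AlgebraicGeometry TopologicalSpace Opposite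

namespace Groth.Agent.GrMap12

theorem app_idealIncl_zero {Z X : Scheme.{u}} (i : Z ⟶ X) {W : X.Opens} (s : Γ(ClSub.idealMod i.ker, W)) :
    i.app W (M2.idealIncl i.ker s) = 0 := by
  refine ConormalBC19.app_eq_zero_of_eq (Scheme.Hom.toImage_imageι i) ?_
  rw [Scheme.Hom.comp_app, CommRingCat.comp_apply]
  show i.toImage.app _ (i.ker.subschemeι.app W (M2.idealIncl i.ker s)) = 0
  rw [M2.subschemeι_app_idealIncl, map_zero]

/-- Restriction of a class. -/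
theorem conormalSect_mres {Z X : Scheme.{u}} (i : Z ⟶ X) {W W' : X.Opens} (h : W' ≤ W)
    (s : Γ(ClSub.idealMod i.ker, W)) :
    OmegaSh.conormalSect i W' (M1.mres (ClSub.idealMod i.ker) h s) =
      M1.mres (Omega.conormal i) (i.preimage_mono h) (OmegaSh.conormalSect i W s) :=
  M1.app_mres ((Scheme.Modules.pullbackPushforwardAdjunction i).unit.app (ClSub.idealMod i.ker)) h s

variable {Y' Y X : Scheme.{u}} (f : Y ⟶ X) (j : Y' ⟶ Y)

/-- A lift of a germ of the ideal of `Y'` in `Y`. -/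
structure LiftDatum (U : Y.Opens) (s : Γ(ClSub.idealMod j.ker, U)) (z : Y') (hz : j z ∈ U) where
  V : X.Opens
  t : Γ(ClSub.idealMod (j ≫ f).ker, V)
  mem : f (j z) ∈ V
  eq : Y.presheaf.germ (f ⁻¹ᵁ V) (j z) mem (f.app V (M2.idealIncl (j ≫ f).ker t)) =
    Y.presheaf.germ U (j z) hz (M2.idealIncl j.ker s)

theorem nonempty_liftDatum [IsImmersion f] [IsImmersion j] [QuasiCompact f] [QuasiCompact j] (U : Y.Opens)
    (s : Γ(ClSub.idealMod j.ker, U)) (z : Y') (hz : j z ∈ U) : Nonempty (LiftDatum f j U s z hz) := by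
  obtain ⟨V, b, hV, he⟩ := Omega12.exists_app_eq_res f hz (M2.idealIncl j.ker s)
  have h0 : Y'.presheaf.germ ((j ≫ f) ⁻¹ᵁ V) z hV ((j ≫ f).app V b) = 0 := by
    rw [Scheme.Hom.comp_app, CommRingCat.comp_apply]
    refine (Scheme.Hom.germ_stalkMap_apply j (f ⁻¹ᵁ V) z hV (f.app V b)).symm.trans ?_
    rw [he, Scheme.Hom.germ_stalkMap_apply, app_idealIncl_zero, map_zero]
  obtain ⟨W, hW, hzW, t, ht⟩ := Omega12.exists_idealSect_of_germ_eq_zero (j ≫ f) (x := z) hV b h0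
  refine ⟨⟨W, t, hzW, ?_⟩⟩
  rw [ht, ← he, ← Scheme.Hom.germ_stalkMap_apply, TopCat.Presheaf.germ_res_apply, Scheme.Hom.germ_stalkMap_apply]

variable [IsImmersion f] [IsImmersion j] [QuasiCompact f] [QuasiCompact j]

variable {f j}

section descend

variable {F : Y'.Modules} (β : Omega.conormal (j ≫ f) ⟶ F)

/-- `β` on a class, as a germ. -/
noncomputable def tval {V : X.Opens} (t : Γ(ClSub.idealMod (j ≫ f).ker, V)) (z : Y') (hz : f (j z) ∈ V) :
    ((F.presheaf.stalk z : AddCommGrpCat.{u}) : Type u) :=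
  F.presheaf.germ ((j ≫ f) ⁻¹ᵁ V) z hz (β.app _ (OmegaSh.conormalSect (j ≫ f) V t))

omit [IsImmersion f] [IsImmersion j] [QuasiCompact f] [QuasiCompact j] in
theorem tval_res {V V' : X.Opens} (h : V' ≤ V) (t : Γ(ClSub.idealMod (j ≫ f).ker, V)) (z : Y') (hz : f (j z) ∈ V') :
    tval β (M1.mres _ h t) z hz = tval β t z (h hz) := by
  rw [tval, conormalSect_mres, M1.app_mres, M1.germ_mres]
  rfl

omit [IsImmersion f] [IsImmersion j] [QuasiCompact f] [QuasiCompact j] in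
theorem tval_add {V : X.Opens} (t t' : Γ(ClSub.idealMod (j ≫ f).ker, V)) (z : Y') (hz : f (j z) ∈ V) :
    tval β (t + t') z hz = tval β t z hz + tval β t' z hz := by
  show F.presheaf.germ _ z hz (β.app _ (OmegaSh.conormalSect (j ≫ f) V (t + t'))) = _
  rw [map_add (OmegaSh.conormalSect (j ≫ f) V).hom]
  exact (congrArg _ (map_add (β.app _).hom _ _)).trans (map_add (F.presheaf.germ _ z hz).hom _ _)

omit [IsImmersion f] [IsImmersion j] [QuasiCompact f] [QuasiCompact j] in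
theorem tval_smul {V : X.Opens} (c : Γ(X, V)) (t : Γ(ClSub.idealMod (j ≫ f).ker, V)) (z : Y') (hz : f (j z) ∈ V) :
    tval β (c • t) z hz = Y'.presheaf.germ ((j ≫ f) ⁻¹ᵁ V) z hz ((j ≫ f).app V c) • tval β t z hz := by
  show F.presheaf.germ _ z hz (β.app _ (OmegaSh.conormalSect (j ≫ f) V (c • t))) = _
  refine (congrArg (fun y => F.presheaf.germ ((j ≫ f) ⁻¹ᵁ V) z hz (β.app _ y))
    (M2.pullSec_smul (j ≫ f) (ClSub.idealMod (j ≫ f).ker) c t)).trans ?_
  rw [Scheme.Modules.Hom.app_smul]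
  exact M1.germ_smul F hz _ _

variable (hβ : ∀ (V : X.Opens) (t : Γ(ClSub.idealMod (j ≫ f).ker, V)),
  f.app V (M2.idealIncl (j ≫ f).ker t) = 0 → ∀ (z : Y') (hz : f (j z) ∈ V), tval β t z hz = 0)

include hβ in
theorem liftDatum_wd {U : Y.Opens} {s : Γ(ClSub.idealMod j.ker, U)} {z : Y'} {hz : j z ∈ U}
    (D D' : LiftDatum f j U s z hz) : tval β D.t z D.mem = tval β D'.t z D'.mem := by
  let V := D.V ⊓ D'.V
  have hzV : f (j z) ∈ V := ⟨D.mem, D'.mem⟩
  let τ := M1.mres (ClSub.idealMod (j ≫ f).ker) (inf_le_left : V ≤ D.V) D.t -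
    M1.mres (ClSub.idealMod (j ≫ f).ker) (inf_le_right : V ≤ D'.V) D'.t
  have hg : Y.presheaf.germ (f ⁻¹ᵁ V) (j z) hzV (f.app V (M2.idealIncl (j ≫ f).ker τ)) = 0 := by
    show Y.presheaf.germ (f ⁻¹ᵁ V) (j z) hzV (f.app V (((ClSub.idealModι (j ≫ f).ker).app V).hom (_ - _))) = 0
    rw [map_sub]
    show Y.presheaf.germ (f ⁻¹ᵁ V) (j z) hzV (f.app V (M2.idealIncl _ _ - M2.idealIncl _ _)) = 0
    rw [show M2.idealIncl (j ≫ f).ker (M1.mres _ (inf_le_left : V ≤ D.V) D.t) = _ from M2.idealIncl_res _ _ D.t,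
      show M2.idealIncl (j ≫ f).ker (M1.mres _ (inf_le_right : V ≤ D'.V) D'.t) = _ from M2.idealIncl_res _ _ D'.t,
      map_sub, map_sub, ← Scheme.Hom.germ_stalkMap_apply, ← Scheme.Hom.germ_stalkMap_apply,
      TopCat.Presheaf.germ_res_apply, TopCat.Presheaf.germ_res_apply, Scheme.Hom.germ_stalkMap_apply,
      Scheme.Hom.germ_stalkMap_apply, D.eq, D'.eq, sub_self]
  obtain ⟨O, hzO, i₁, i₂, he⟩ := Y.presheaf.germ_eq (U := f ⁻¹ᵁ V) (V := f ⁻¹ᵁ V) (j z) hzV hzV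
    (f.app V (M2.idealIncl (j ≫ f).ker τ)) 0 (hg.trans (map_zero _).symm)
  obtain ⟨O₀, hO₀, hO₀e⟩ := f.isEmbedding.isInducing.isOpen_iff.1 O.2
  let W : X.Opens := V ⊓ ⟨O₀, hO₀⟩
  have hzW : f (j z) ∈ W := by
    refine ⟨hzV, ?_⟩
    have : j z ∈ f ⁻¹' O₀ := by rw [hO₀e]; exact hzO
    exact this
  have hWO : f ⁻¹ᵁ W ≤ O := fun y hy => by
    have : y ∈ f ⁻¹' O₀ := hy.2
    rwa [hO₀e] at this
  have h0 : f.app W (M2.idealIncl (j ≫ f).ker (M1.mres (ClSub.idealMod (j ≫ f).ker) (inf_le_left : W ≤ V) τ)) = 0 := by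
    rw [show M2.idealIncl (j ≫ f).ker (M1.mres _ (inf_le_left : W ≤ V) τ) = _ from M2.idealIncl_res _ _ τ]
    refine (ConcreteCategory.congr_hom (f.naturality (homOfLE (inf_le_left : W ≤ V)).op) _).trans ?_
    show (Y.presheaf.map ((Opens.map f.base).map (homOfLE (inf_le_left : W ≤ V))).op) (f.app V _) = 0
    have h2 := congrArg (Y.presheaf.map (homOfLE hWO).op) he
    simp only [map_zero] at h2
    rw [← CategoryTheory.comp_apply, ← Functor.map_comp] at h2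
    exact h2
  have h1 : tval β τ z hzV = 0 := by
    rw [← tval_res β (inf_le_left : W ≤ V) τ z hzW]
    exact hβ W _ h0 z hzW
  have h3 : tval β (M1.mres (ClSub.idealMod (j ≫ f).ker) (inf_le_left : V ≤ D.V) D.t) z hzV =
      tval β τ z hzV + tval β (M1.mres (ClSub.idealMod (j ≫ f).ker) (inf_le_right : V ≤ D'.V) D'.t) z hzV := by
    rw [← tval_add, sub_add_cancel]
  rw [tval_res, tval_res, h1, zero_add] at h3
  exact h3

include hβ in
theorem exists_descend_conormal :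
    ∃ α : Omega.conormal j ⟶ F, ∀ (V : X.Opens) (t : Γ(ClSub.idealMod (j ≫ f).ker, V))
      (s : Γ(ClSub.idealMod j.ker, f ⁻¹ᵁ V)), M2.idealIncl j.ker s = f.app V (M2.idealIncl (j ≫ f).ker t) →
      α.app (j ⁻¹ᵁ (f ⁻¹ᵁ V)) (OmegaSh.conormalSect j (f ⁻¹ᵁ V) s) =
        β.app ((j ≫ f) ⁻¹ᵁ V) (OmegaSh.conormalSect (j ≫ f) V t) := by
  classical
  let val : ∀ (U : Y.Opens) (_ : Γ(ClSub.idealMod j.ker, U)) (z : Y'), z ∈ j ⁻¹ᵁ U →
      ((F.presheaf.stalk z : AddCommGrpCat.{u}) : Type u) :=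
    fun U s z hz => tval β (nonempty_liftDatum f j U s z hz).some.t z (nonempty_liftDatum f j U s z hz).some.mem
  have hval : ∀ (U : Y.Opens) (s : Γ(ClSub.idealMod j.ker, U)) (z : Y') (hz : z ∈ j ⁻¹ᵁ U) (D : LiftDatum f j U s z hz),
      val U s z hz = tval β D.t z D.mem := fun U s z hz D => liftDatum_wd β hβ _ D
  have glue : ∀ (U : Y.Opens) (s : Γ(ClSub.idealMod j.ker, U)), ∃ σ : Γ(F, j ⁻¹ᵁ U),
      ∀ z (hz : z ∈ j ⁻¹ᵁ U), F.presheaf.germ (j ⁻¹ᵁ U) z hz σ = val U s z hz := fun U s => by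
    have loc : ∀ z : (j ⁻¹ᵁ U : Y'.Opens), ∃ (O : Y'.Opens) (hO : O ≤ j ⁻¹ᵁ U) (σ : Γ(F, O)), z.1 ∈ O ∧
        ∀ y (hy : y ∈ O), F.presheaf.germ O y hy σ = val U s y (hO hy) := fun ⟨z, hz⟩ => by
      obtain ⟨D⟩ := nonempty_liftDatum f j U s z hz
      obtain ⟨O, hzO, i₁, i₂, he⟩ := Y.presheaf.germ_eq (j z) D.mem hz _ _ D.eq
      refine ⟨j ⁻¹ᵁ O, j.preimage_mono i₂.le, M1.mres F (show j ⁻¹ᵁ O ≤ (j ≫ f) ⁻¹ᵁ D.V from j.preimage_mono i₁.le)
        (β.app _ (OmegaSh.conormalSect (j ≫ f) D.V D.t)), hzO, fun y hy => ?_⟩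
      rw [M1.germ_mres, hval U s y _ ⟨D.V, D.t, i₁.le hy, ?_⟩]
      · rfl
      · have := congrArg (Y.presheaf.germ O (j y) hy) he
        rw [TopCat.Presheaf.germ_res_apply, TopCat.Presheaf.germ_res_apply] at this
        exact this
    choose O hO σ hzO hσ using loc
    obtain ⟨τ, hτ, -⟩ := TopCat.Sheaf.existsUnique_gluing' ⟨_, F.isSheaf⟩ O (j ⁻¹ᵁ U)
      (fun z => homOfLE (hO z)) (fun z hz => Opens.mem_iSup.2 ⟨⟨z, hz⟩, hzO _⟩) σ (fun z₁ z₂ => by
        refine M1.section_ext _ _ fun y hy => ?_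
        refine (TopCat.Presheaf.germ_res_apply F.presheaf (homOfLE inf_le_left) y hy (σ z₁)).trans ?_
        refine Eq.trans ?_ (TopCat.Presheaf.germ_res_apply F.presheaf (homOfLE inf_le_right) y hy (σ z₂)).symm
        exact (hσ z₁ y hy.1).trans (hσ z₂ y hy.2).symm)
    refine ⟨τ, fun z hz => ?_⟩
    rw [← hσ ⟨z, hz⟩ z (hzO _), ← hτ ⟨z, hz⟩]
    exact (TopCat.Presheaf.germ_res_apply F.presheaf (homOfLE (hO ⟨z, hz⟩)) z (hzO _) τ).symm
  choose e he using glue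
  have e_eq : ∀ (U : Y.Opens) (s : Γ(ClSub.idealMod j.ker, U)) (σ : Γ(F, j ⁻¹ᵁ U)),
      (∀ z (hz : z ∈ j ⁻¹ᵁ U), ∃ D : LiftDatum f j U s z hz, F.presheaf.germ (j ⁻¹ᵁ U) z hz σ = tval β D.t z D.mem) →
      e U s = σ := fun U s σ h => M1.section_ext _ _ fun z hz => by
    obtain ⟨D, hD⟩ := h z hz
    rw [he, hD, hval U s z hz D]
  have e_add : ∀ (U : Y.Opens) (s s' : Γ(ClSub.idealMod j.ker, U)), e U (s + s') = e U s + e U s' := fun U s s' =>
    e_eq U _ _ fun z hz => by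
      obtain ⟨D⟩ := nonempty_liftDatum f j U s z hz
      obtain ⟨D'⟩ := nonempty_liftDatum f j U s' z hz
      let V := D.V ⊓ D'.V
      have hzV : f (j z) ∈ V := ⟨D.mem, D'.mem⟩
      refine ⟨⟨V, M1.mres _ (inf_le_left : V ≤ D.V) D.t + M1.mres _ (inf_le_right : V ≤ D'.V) D'.t, hzV, ?_⟩, ?_⟩
      · rw [M2.idealIncl_add, show M2.idealIncl (j ≫ f).ker (M1.mres _ (inf_le_left : V ≤ D.V) D.t) = _ from M2.idealIncl_res _ _ D.t,
          show M2.idealIncl (j ≫ f).ker (M1.mres _ (inf_le_right : V ≤ D'.V) D'.t) = _ from M2.idealIncl_res _ _ D'.t,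
          map_add, map_add, ← Scheme.Hom.germ_stalkMap_apply, ← Scheme.Hom.germ_stalkMap_apply,
          TopCat.Presheaf.germ_res_apply, TopCat.Presheaf.germ_res_apply, Scheme.Hom.germ_stalkMap_apply,
          Scheme.Hom.germ_stalkMap_apply, D.eq, D'.eq, M2.idealIncl_add, map_add]
      · rw [tval_add, tval_res, tval_res, map_add (F.presheaf.germ (j ⁻¹ᵁ U) z hz).hom]
        exact congrArg₂ (· + ·) ((he U s z hz).trans (hval U s z hz D)) ((he U s' z hz).trans (hval U s' z hz D'))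
  have e_res : ∀ (U U' : Y.Opens) (h : U' ≤ U) (s : Γ(ClSub.idealMod j.ker, U)),
      e U' (M1.mres (ClSub.idealMod j.ker) h s) = M1.mres F (j.preimage_mono h) (e U s) := fun U U' h s =>
    e_eq _ _ _ fun z hz => by
      obtain ⟨D⟩ := nonempty_liftDatum f j U s z (h hz)
      refine ⟨⟨D.V, D.t, D.mem, D.eq.trans ?_⟩, ?_⟩
      · rw [show M2.idealIncl j.ker (M1.mres _ h s) = _ from M2.idealIncl_res _ _ s, TopCat.Presheaf.germ_res_apply]
      · rw [M1.germ_mres F (j.preimage_mono h) hz, he]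
        exact hval U s z _ D
  have e_smul : ∀ (U : Y.Opens) (r : Γ(Y, U)) (s : Γ(ClSub.idealMod j.ker, U)),
      e U (r • s) = j.app U r • e U s := fun U r s => e_eq _ _ _ fun z hz => by
    obtain ⟨D⟩ := nonempty_liftDatum f j U s z hz
    obtain ⟨V₁, c, hzV₁, hc⟩ := Omega12.exists_app_eq_res f hz r
    let V := D.V ⊓ V₁
    have hzV : f (j z) ∈ V := ⟨D.mem, hzV₁⟩
    refine ⟨⟨V, X.presheaf.map (homOfLE (inf_le_right : V ≤ V₁)).op c • M1.mres _ (inf_le_left : V ≤ D.V) D.t, hzV, ?_⟩, ?_⟩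
    · rw [M2.idealIncl_smul, show M2.idealIncl (j ≫ f).ker (M1.mres _ (inf_le_left : V ≤ D.V) D.t) = _ from M2.idealIncl_res _ _ D.t,
        map_mul, map_mul, ← Scheme.Hom.germ_stalkMap_apply, ← Scheme.Hom.germ_stalkMap_apply,
        TopCat.Presheaf.germ_res_apply, TopCat.Presheaf.germ_res_apply, Scheme.Hom.germ_stalkMap_apply,
        Scheme.Hom.germ_stalkMap_apply, D.eq, hc, M2.idealIncl_smul, map_mul]
    · rw [tval_smul, tval_res]
      refine (M1.germ_smul F hz _ _).trans ?_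
      rw [he, hval U s z hz D]
      refine congrArg (· • tval β D.t z D.mem) ?_
      rw [Scheme.Hom.comp_app, CommRingCat.comp_apply]
      refine ((Scheme.Hom.germ_stalkMap_apply j U z hz r).symm.trans ?_).trans
        (Scheme.Hom.germ_stalkMap_apply j (f ⁻¹ᵁ V) z hzV _)
      rw [← Scheme.Hom.germ_stalkMap_apply f V (j z) hzV, TopCat.Presheaf.germ_res_apply]
      exact congrArg (j.stalkMap z) (hc.symm.trans (Scheme.Hom.germ_stalkMap_apply f V₁ (j z) hzV₁ c).symm)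
  let ψ : (ClSub.idealMod j.ker).presheaf ⟶ ((Scheme.Modules.pushforward j).obj F).presheaf :=
    { app := fun U => AddCommGrpCat.ofHom (AddMonoidHom.mk' (e U.unop) (e_add U.unop))
      naturality := fun U V k => by ext s; exact e_res U.unop V.unop k.unop.le s }
  let a : ClSub.idealMod j.ker ⟶ (Scheme.Modules.pushforward j).obj F :=
    ⟨PresheafOfModules.homMk ψ fun U r s => e_smul U.unop r s⟩
  refine ⟨((Scheme.Modules.pullbackPushforwardAdjunction j).homEquiv _ _).symm a, fun V t s hs => ?_⟩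
  refine Eq.trans ?_ (show e (f ⁻¹ᵁ V) s = β.app ((j ≫ f) ⁻¹ᵁ V) (OmegaSh.conormalSect (j ≫ f) V t) from
    e_eq _ _ _ fun z hz => ⟨⟨V, t, hz, by rw [hs]⟩, rfl⟩)
  refine Eq.trans ?_ (congrArg (fun χ => Scheme.Modules.Hom.app χ (f ⁻¹ᵁ V) s)
    (((Scheme.Modules.pullbackPushforwardAdjunction j).homEquiv _ _).apply_symm_apply a))
  rw [Adjunction.homEquiv_unit]
  rfl

end descend

theorem exists_comp_idealSect {V : X.Opens} (t : Γ(ClSub.idealMod (j ≫ f).ker, V)) :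
    ∃ s : Γ(ClSub.idealMod j.ker, f ⁻¹ᵁ V), M2.idealIncl j.ker s = f.app V (M2.idealIncl (j ≫ f).ker t) := by
  refine exists_idealSect_of_app_eq_zero j _ ?_
  have := app_idealIncl_zero (j ≫ f) t
  rwa [Scheme.Hom.comp_app, CommRingCat.comp_apply] at this

/-- The exact sequence of conormal sheaves. -/
theorem exact_conormal (φ₁ : (Scheme.Modules.pullback j).obj (Omega.conormal f) ⟶ Omega.conormal (j ≫ f))
    (hφ₁ : OmegaSh.IsConormalMap (j ≫ f) f (𝟙 X) j φ₁)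
    (φ₂ : (Scheme.Modules.pullback (𝟙 Y')).obj (Omega.conormal (j ≫ f)) ⟶ Omega.conormal j)
    (hφ₂ : OmegaSh.IsConormalMap j (j ≫ f) f (𝟙 Y') φ₂) :
    ∃ h0 : φ₁ ≫ (Scheme.Modules.pullbackId Y').inv.app (Omega.conormal (j ≫ f)) ≫ φ₂ = 0,
      (ShortComplex.mk φ₁ ((Scheme.Modules.pullbackId Y').inv.app (Omega.conormal (j ≫ f)) ≫ φ₂) h0).Exact ∧
      Epi φ₂ := by
  let N := Omega.conormal (j ≫ f)
  let γ : N ⟶ Omega.conormal j := (Scheme.Modules.pullbackId Y').inv.app N ≫ φ₂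
  have e0 : ∀ (G : Y'.Modules) (O : Y'.Opens) (m : Γ(G, O)), M1.mres G (le_rfl : O ≤ O) m = m :=
    fun G O m => ConcreteCategory.congr_hom (G.presheaf.map_id (op O)) m
  have hγ : ∀ (V : X.Opens) (t : Γ(ClSub.idealMod (j ≫ f).ker, V)) (s : Γ(ClSub.idealMod j.ker, f ⁻¹ᵁ V)),
      M2.idealIncl j.ker s = f.app V (M2.idealIncl (j ≫ f).ker t) →
      γ.app ((j ≫ f) ⁻¹ᵁ V) (OmegaSh.conormalSect (j ≫ f) V t) = OmegaSh.conormalSect j (f ⁻¹ᵁ V) s :=
    fun V t s hs => by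
    show φ₂.app _ (((Scheme.Modules.pullbackId Y').inv.app N).app _ (OmegaSh.conormalSect (j ≫ f) V t)) = _
    rw [Omega12.pullbackId_inv_app]
    refine (e0 _ _ _).symm.trans (Eq.trans ?_ (e0 _ _ _))
    exact hφ₂.2 V t s hs _ le_rfl le_rfl
  have hφ₁' : ∀ (V : X.Opens) (s' : Γ(ClSub.idealMod f.ker, V)) (t : Γ(ClSub.idealMod (j ≫ f).ker, V)),
      M2.idealIncl (j ≫ f).ker t = M2.idealIncl f.ker s' →
      φ₁.app (j ⁻¹ᵁ (f ⁻¹ᵁ V)) (OmegaSh.pullSect j _ (f ⁻¹ᵁ V) (OmegaSh.conormalSect f V s')) =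
        OmegaSh.conormalSect (j ≫ f) V t := fun V s' t ht =>
    (e0 _ _ _).symm.trans ((hφ₁.2 V s' t ht _ le_rfl le_rfl).trans (e0 _ _ _))
  have h0 : φ₁ ≫ γ = 0 := by
    apply ((Scheme.Modules.pullbackPushforwardAdjunction j).homEquiv _ _).injective
    apply ((Scheme.Modules.pullbackPushforwardAdjunction f).homEquiv _ _).injective
    ext V s'
    simp only [Adjunction.homEquiv_unit, Functor.map_zero, comp_zero]
    show γ.app (j ⁻¹ᵁ (f ⁻¹ᵁ V))
      (φ₁.app (j ⁻¹ᵁ (f ⁻¹ᵁ V)) (OmegaSh.pullSect j _ (f ⁻¹ᵁ V) (OmegaSh.conormalSect f V s'))) = 0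
    obtain ⟨t, ht⟩ := exists_idealSect_of_app_eq_zero (j ≫ f) (M2.idealIncl f.ker s') (by
      rw [Scheme.Hom.comp_app, CommRingCat.comp_apply, app_idealIncl_zero f s', map_zero])
    rw [hφ₁' V s' t ht]
    refine (hγ V t 0 ?_).trans (map_zero _)
    rw [ht, app_idealIncl_zero f s']
    exact map_zero _
  haveI hepiγ : Epi γ := ⟨fun {F} a b hab => by
    apply ((Scheme.Modules.pullbackPushforwardAdjunction j).homEquiv _ _).injective
    ext U s
    simp only [Adjunction.homEquiv_unit]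
    show a.app (j ⁻¹ᵁ U) (OmegaSh.conormalSect j U s) = b.app (j ⁻¹ᵁ U) (OmegaSh.conormalSect j U s)
    refine M1.section_ext _ _ fun z hz => ?_
    obtain ⟨D⟩ := nonempty_liftDatum f j U s z hz
    obtain ⟨st, hst⟩ := exists_comp_idealSect D.t
    obtain ⟨O, hzO, i₁, i₂, he⟩ := Y.presheaf.germ_eq (j z) D.mem hz _ _ D.eq
    have hes : M1.mres (ClSub.idealMod j.ker) i₁.le st = M1.mres (ClSub.idealMod j.ker) i₂.le s :=
      M2.idealIncl_injective j.ker O (by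
        refine (M2.idealIncl_res _ i₁.le st).trans (Eq.trans ?_ (M2.idealIncl_res _ i₂.le s).symm)
        rw [hst]; exact he)
    have key : ∀ c : Omega.conormal j ⟶ F, F.presheaf.germ (j ⁻¹ᵁ U) z hz (c.app _ (OmegaSh.conormalSect j U s)) =
        F.presheaf.germ ((j ≫ f) ⁻¹ᵁ D.V) z D.mem ((γ ≫ c).app _ (OmegaSh.conormalSect (j ≫ f) D.V D.t)) := fun c => by
      show _ = F.presheaf.germ ((j ≫ f) ⁻¹ᵁ D.V) z D.mem (c.app _ (γ.app _ (OmegaSh.conormalSect (j ≫ f) D.V D.t)))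
      rw [hγ D.V D.t st hst, ← M1.germ_mres F (j.preimage_mono i₂.le) hzO]
      refine Eq.trans ?_ (M1.germ_mres F (show j ⁻¹ᵁ O ≤ (j ≫ f) ⁻¹ᵁ D.V from j.preimage_mono i₁.le) hzO _)
      rw [← M1.app_mres, ← conormalSect_mres j i₂.le s, ← hes, conormalSect_mres j i₁.le st, M1.app_mres]
      rfl
    rw [key a, key b, hab]⟩
  have hfac : ∀ (F : Y'.Modules) (β : N ⟶ F), φ₁ ≫ β = 0 → ∃ α : Omega.conormal j ⟶ F, γ ≫ α = β := fun F β hβ => by
    obtain ⟨α, hα⟩ := exists_descend_conormal β (fun V t ht z hz => by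
      obtain ⟨s', hs'⟩ := exists_idealSect_of_app_eq_zero f _ ht
      show F.presheaf.germ _ z hz (β.app _ (OmegaSh.conormalSect (j ≫ f) V t)) = 0
      rw [← hφ₁' V s' t hs'.symm]
      exact (congrArg _ (congrArg (fun χ => Scheme.Modules.Hom.app χ (j ⁻¹ᵁ (f ⁻¹ᵁ V))
        (OmegaSh.pullSect j _ (f ⁻¹ᵁ V) (OmegaSh.conormalSect f V s'))) hβ)).trans (map_zero _))
    refine ⟨α, ((Scheme.Modules.pullbackPushforwardAdjunction (j ≫ f)).homEquiv _ _).injective ?_⟩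
    ext V t
    simp only [Adjunction.homEquiv_unit]
    show α.app _ (γ.app _ (OmegaSh.conormalSect (j ≫ f) V t)) = β.app _ (OmegaSh.conormalSect (j ≫ f) V t)
    obtain ⟨s, hs⟩ := exists_comp_idealSect t
    rw [hγ V t s hs]
    exact hα V t s hs
  refine ⟨h0, ShortComplex.exact_of_g_is_cokernel _ (CokernelCofork.IsColimit.ofπ _ _
    (fun β hβ => (hfac _ β hβ).choose) (fun β hβ => (hfac _ β hβ).choose_spec)
    (fun β hβ m hm => (cancel_epi γ).1 (hm.trans (hfac _ β hβ).choose_spec.symm))), ?_⟩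
  exact epi_of_epi ((Scheme.Modules.pullbackId Y').inv.app N) φ₂

end Groth.Agent.GrMap12
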