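import Groth.Agent.Lib.GrMap12.MonoFS
import Groth.Agent.Lib.GrMap12.Relative
import Groth.Agent.Lib.GrMap12.Transitive
import Groth.Agent.Lib.Omega12.Transitive
import Groth.Agent.Lib.Thick12.Ring

/-!
# For a formally smooth morphism the map of conormal sheaves is a monomorphism

`eq_zero_of_lift` (algebra), `mono_conormalMap_of_formallySmooth`.
-/

set_option autoImplicit false
set_option backward.isDefEq.respectTransparency false
set_option backward.isDefEq.respectTransparency.types false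
set_option linter.style.haveILetI false

universe u

open CategoryTheory CategoryTheory.Limits AlgebraicGeometry TopologicalSpace Opposite TensorProduct

namespace Groth.Agent.GrMap12

section alg

variable {A B C M N : Type u} [CommRing A] [CommRing B] [CommRing C] [Algebra A B] [Algebra B C] [Algebra A C]
  [IsScalarTower A B C] [Algebra.FormallySmooth A B] [AddCommGroup M] [Module A M] [AddCommGroup N] [Module B N]

/-- The conormal module of the base injects into that of a formally smooth algebra. -/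
theorem eq_zero_of_lift (hsA : Function.Surjective (algebraMap A C)) (hsB : Function.Surjective (algebraMap B C))
    (ιM : M →ₗ[A] A) (hιM : Function.Injective ιM) (hrM : LinearMap.range ιM = RingHom.ker (algebraMap A C))
    (ιN : N →ₗ[B] B) (hrN : LinearMap.range ιN = RingHom.ker (algebraMap B C))
    (n : M → N) (hn : ∀ m, ιN (n m) = algebraMap A B (ιM m))
    (d₀ : C ⊗[A] M →+ C ⊗[B] N) (hd₀ : ∀ c m, d₀ (c ⊗ₜ m) = c ⊗ₜ n m)
    (z : C ⊗[A] M) (hz : d₀ z = 0) : z = 0 := by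
  obtain ⟨m, rfl⟩ : ∃ m, (1 : C) ⊗ₜ[A] m = z := by
    clear hz
    induction z using TensorProduct.induction_on with
    | zero => exact ⟨0, TensorProduct.tmul_zero _ _⟩
    | tmul c m =>
      obtain ⟨a, rfl⟩ := hsA c
      exact ⟨a • m, by rw [TensorProduct.tmul_smul, TensorProduct.smul_tmul', Algebra.smul_def, mul_one]⟩
    | add x y hx hy =>
      obtain ⟨a, rfl⟩ := hx
      obtain ⟨b, rfl⟩ := hy
      exact ⟨a + b, TensorProduct.tmul_add _ _ _⟩
  rw [hd₀] at hz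
  let J := RingHom.ker (algebraMap A C)
  let I := RingHom.ker (algebraMap B C)
  have h1 : algebraMap A B (ιM m) ∈ I ^ 2 := by
    rw [← hn]
    have h2 : Submodule.map ιN (I • (⊤ : Submodule B N)) = I ^ 2 := by
      rw [Submodule.map_smul'', Submodule.map_top, hrN, pow_two]
      rfl
    exact h2.le ⟨n m, Thick12.mem_smul_top_of_one_tmul_eq_zero hsB hz, rfl⟩
  let π : (A ⧸ J ^ 2) →ₐ[A] C := Ideal.Quotient.liftₐ (J ^ 2) (Algebra.ofId A C)
    fun a ha => (RingHom.mem_ker.1 (Ideal.pow_le_self two_ne_zero ha) : _)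
  have hπ : Function.Surjective π := fun c => by
    obtain ⟨a, rfl⟩ := hsA c
    exact ⟨Ideal.Quotient.mk _ a, rfl⟩
  have hmul : ∀ p q : A ⧸ J ^ 2, π p = 0 → π q = 0 → p * q = 0 := fun p q hp hq => by
    obtain ⟨a, rfl⟩ := Ideal.Quotient.mk_surjective p
    obtain ⟨b, rfl⟩ := Ideal.Quotient.mk_surjective q
    rw [← map_mul, Ideal.Quotient.eq_zero_iff_mem, pow_two]
    exact Ideal.mul_mem_mul (RingHom.mem_ker.2 hp) (RingHom.mem_ker.2 hq)
  have hnil : IsNilpotent (RingHom.ker π) := ⟨2, (pow_two _).trans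
    (le_bot_iff.1 (Ideal.mul_le.2 fun p hp q hq => hmul p q hp hq))⟩
  let σ := Algebra.FormallySmooth.liftOfSurjective (IsScalarTower.toAlgHom A B C) π hπ hnil
  have hσ : ∀ b, π (σ b) = algebraMap B C b := fun b => AlgHom.congr_fun
    (Algebra.FormallySmooth.comp_liftOfSurjective (IsScalarTower.toAlgHom A B C) π hπ hnil) b
  have h3 : σ (algebraMap A B (ιM m)) = 0 := by
    rw [pow_two] at h1
    refine Submodule.mul_induction_on h1 (fun a ha b hb => ?_) fun a b ha hb => by rw [map_add, ha, hb, add_zero]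
    rw [map_mul]
    exact hmul _ _ ((hσ a).trans ha) ((hσ b).trans hb)
  rw [AlgHom.commutes] at h3
  have h4 : ιM m ∈ J ^ 2 := Ideal.Quotient.eq_zero_iff_mem.1 h3
  have h5 : Submodule.map ιM (J • (⊤ : Submodule A M)) = J ^ 2 := by
    rw [Submodule.map_smul'', Submodule.map_top, hrM, pow_two]
    rfl
  obtain ⟨m', hm', he⟩ := h5.ge h4
  obtain rfl := hιM he
  refine Submodule.smul_induction_on hm' (fun a ha y _ => ?_) fun x y hx hy => ?_
  · rw [TensorProduct.tmul_smul, TensorProduct.smul_tmul', Algebra.smul_def, RingHom.mem_ker.1 ha, zero_mul,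
      TensorProduct.zero_tmul]
  · rw [TensorProduct.tmul_add, hx, hy, add_zero]

end alg

theorem idealIncl_mres {X : Scheme.{u}} (I : X.IdealSheafData) {U U' : X.Opens} (h : U' ≤ U)
    (a : Γ(ClSub.idealMod I, U)) :
    M2.idealIncl I (M1.mres (ClSub.idealMod I) h a) = X.presheaf.map (homOfLE h).op (M2.idealIncl I a) :=
  M2.idealIncl_res I h a

variable {Z X Y : Scheme.{u}} {i : Z ⟶ X} {j : Z ⟶ Y} {p : X ⟶ Y}

/-- The map of conormal sheaves without the pullback along the identity. -/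
noncomputable abbrev psi₀ (ψ : (Scheme.Modules.pullback (𝟙 Z)).obj (Omega.conormal j) ⟶ Omega.conormal i) :
    Omega.conormal j ⟶ Omega.conormal i :=
  (Scheme.Modules.pullbackId Z).inv.app (Omega.conormal j) ≫ ψ

theorem psi₀_conormalSect {ψ : (Scheme.Modules.pullback (𝟙 Z)).obj (Omega.conormal j) ⟶ Omega.conormal i}
    (hψ : OmegaSh.IsConormalMap i j p (𝟙 Z) ψ) (w : i ≫ p = j) (V : Y.Opens) (s' : Γ(ClSub.idealMod j.ker, V))
    (U : X.Opens) (hU : U ≤ p ⁻¹ᵁ V) (s : Γ(ClSub.idealMod i.ker, U))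
    (hs : M2.idealIncl i.ker s = p.appLE V U hU (M2.idealIncl j.ker s')) (W : Z.Opens) (h₁ : W ≤ j ⁻¹ᵁ V)
    (h₂ : W ≤ i ⁻¹ᵁ U) :
    (psi₀ ψ).app W (M1.mres (Omega.conormal j) h₁ (OmegaSh.conormalSect j V s')) =
      M1.mres (Omega.conormal i) h₂ (OmegaSh.conormalSect i U s) := by
  obtain ⟨t, ht⟩ := exists_lift_idealSect (i := i) w s'
  have hts : s = M1.mres (ClSub.idealMod i.ker) hU t := M2.idealIncl_injective i.ker U (by
    rw [hs, idealIncl_mres, ht]
    rfl)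
  have h := hψ.2 V s' t ht W h₁ (h₂.trans (i.preimage_mono hU))
  rw [M1.app_mres, hts, conormalSect_mres, M1.mres_mres]
  refine Eq.trans ?_ h
  show M1.mres _ h₁ (ψ.app _ (((Scheme.Modules.pullbackId Z).inv.app (Omega.conormal j)).app _ _)) = _
  rw [Omega12.pullbackId_inv_app]
  rfl

variable [IsImmersion i] [QuasiCompact i] [IsImmersion j] [QuasiCompact j]

set_option maxHeartbeats 1000000 in
theorem injective_app_psi₀ {ψ : (Scheme.Modules.pullback (𝟙 Z)).obj (Omega.conormal j) ⟶ Omega.conormal i}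
    (hψ : OmegaSh.IsConormalMap i j p (𝟙 Z) ψ) (w : i ≫ p = j)
    {V : Y.Opens} (hV : IsAffineOpen V) (hVj : V ≤ j.coborderRange) {U : X.Opens} (hU : IsAffineOpen U)
    (hUi : U ≤ i.coborderRange) (hUV : U ≤ p ⁻¹ᵁ V) {W : Z.Opens} (hWj : W = j ⁻¹ᵁ V) (hWi : W = i ⁻¹ᵁ U)
    (hfs : (p.appLE V U hUV).hom.FormallySmooth) : Function.Injective ((psi₀ ψ).app W) := by
  have hWa : IsAffineOpen W := hWj ▸ isAffineOpen_preimage_of_le_coborder j hV hVj
  have h₁ : W ≤ j ⁻¹ᵁ V := hWj.le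
  have h₂ : W ≤ i ⁻¹ᵁ U := hWi.le
  letI a1 : Algebra Γ(Y, V) Γ(X, U) := (p.appLE V U hUV).hom.toAlgebra
  letI a2 : Algebra Γ(X, U) Γ(Z, W) := (i.appLE U W h₂).hom.toAlgebra
  letI a3 : Algebra Γ(Y, V) Γ(Z, W) := (j.appLE V W h₁).hom.toAlgebra
  haveI : IsScalarTower Γ(Y, V) Γ(X, U) Γ(Z, W) := IsScalarTower.of_algebraMap_eq fun r => by
    show j.appLE V W h₁ r = i.appLE U W h₂ (p.appLE V U hUV r)
    rw [appLE_comp_eq i p w hUV h₂ h₁]
  haveI : Algebra.FormallySmooth Γ(Y, V) Γ(X, U) := RingHom.formallySmooth_algebraMap.1 hfs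
  let N₁ := (Scheme.Modules.pullback j).obj (ClSub.idealMod j.ker)
  let N₂ := (Scheme.Modules.pullback i).obj (ClSub.idealMod i.ker)
  letI := PullBC11.baseModule (g := j) N₁ h₁
  haveI : IsScalarTower Γ(Y, V) Γ(Z, W) Γ(N₁, W) := IsScalarTower.of_algebraMap_smul fun _ _ => rfl
  letI := PullBC11.baseModule (g := i) N₂ h₂
  haveI : IsScalarTower Γ(X, U) Γ(Z, W) Γ(N₂, W) := IsScalarTower.of_algebraMap_smul fun _ _ => rfl
  have hBC₁ : IsBaseChange Γ(Z, W) (PullBC11.sect (PP12.unitTo j (ClSub.idealMod j.ker)) h₁) :=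
    PP12.isBC_unit j (M2.isQCoh_idealMod _) hV hWa h₁
  have hBC₂ : IsBaseChange Γ(Z, W) (PullBC11.sect (PP12.unitTo i (ClSub.idealMod i.ker)) h₂) :=
    PP12.isBC_unit i (M2.isQCoh_idealMod _) hU hWa h₂
  have hsurjA : Function.Surjective (j.appLE V W h₁) := by
    subst hWj
    rw [← Scheme.Hom.app_eq_appLE]
    exact app_surjective_of_le_coborder j hV hVj
  have hsurjB : Function.Surjective (i.appLE U W h₂) := by
    subst hWi
    rw [← Scheme.Hom.app_eq_appLE]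
    exact app_surjective_of_le_coborder i hU hUi
  have hkerA : RingHom.ker (j.appLE V W h₁).hom = RingHom.ker (j.app V).hom := by
    subst hWj
    rw [Scheme.Hom.app_eq_appLE]
  have hkerB : RingHom.ker (i.appLE U W h₂).hom = RingHom.ker (i.app U).hom := by
    subst hWi
    rw [Scheme.Hom.app_eq_appLE]
  have hn : ∀ m : Γ(ClSub.idealMod j.ker, V), ∃ s : Γ(ClSub.idealMod i.ker, U),
      inclLin i.ker U s = algebraMap Γ(Y, V) Γ(X, U) (inclLin j.ker V m) := fun m => by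
    obtain ⟨t, ht⟩ := exists_lift_idealSect (i := i) w m
    refine ⟨M1.mres (ClSub.idealMod i.ker) hUV t, ?_⟩
    show M2.idealIncl i.ker (M1.mres (ClSub.idealMod i.ker) hUV t) = p.appLE V U hUV (M2.idealIncl j.ker m)
    rw [idealIncl_mres, ht]
    rfl
  choose n hn using hn
  let d₀ : Γ(Z, W) ⊗[Γ(Y, V)] Γ(ClSub.idealMod j.ker, V) →+ Γ(Z, W) ⊗[Γ(X, U)] Γ(ClSub.idealMod i.ker, U) :=
    hBC₂.equiv.symm.toLinearMap.toAddMonoidHom.comp
      (((psi₀ ψ).app W).hom.comp hBC₁.equiv.toLinearMap.toAddMonoidHom)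
  intro a b hab
  rw [← sub_eq_zero]
  obtain ⟨z, hz⟩ := hBC₁.equiv.surjective (a - b)
  rw [← hz]
  refine (congrArg hBC₁.equiv (eq_zero_of_lift hsurjA hsurjB (inclLin j.ker V) (M2.idealIncl_injective _ _) ?_
    (inclLin i.ker U) ?_ n hn d₀ (fun c m => ?_) z ?_)).trans (map_zero _)
  · rw [range_inclLin _ ⟨V, hV⟩, Scheme.Hom.ker_apply]
    exact hkerA.symm
  · rw [range_inclLin _ ⟨U, hU⟩, Scheme.Hom.ker_apply]
    exact hkerB.symm
  · show hBC₂.equiv.symm ((psi₀ ψ).app W (hBC₁.equiv (c ⊗ₜ m))) = _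
    rw [hBC₁.equiv_tmul, Scheme.Modules.Hom.app_smul, LinearEquiv.symm_apply_eq, hBC₂.equiv_tmul]
    congr 1
    exact psi₀_conormalSect hψ w V m U hUV (n m) (hn m) W h₁ h₂
  · show hBC₂.equiv.symm ((psi₀ ψ).app W (hBC₁.equiv z)) = 0
    rw [hz, map_sub, hab, sub_self, map_zero]

theorem mono_conormalMap_of_formallySmooth (hp : MoreMor.IsFormallySmoothHom p) (w : i ≫ p = j)
    {ψ : (Scheme.Modules.pullback (𝟙 Z)).obj (Omega.conormal j) ⟶ Omega.conormal i}
    (hψ : OmegaSh.IsConormalMap i j p (𝟙 Z) ψ) : Mono ψ := by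
  let P : Z.affineOpens → Prop := fun W => ∃ (V : Y.Opens) (U : X.Opens), IsAffineOpen V ∧ V ≤ j.coborderRange ∧
    IsAffineOpen U ∧ U ≤ i.coborderRange ∧ U ≤ p ⁻¹ᵁ V ∧ W.1 = j ⁻¹ᵁ V ∧ W.1 = i ⁻¹ᵁ U
  have hP : KoszShH13.IsAffBasis P := fun O z hz => by
    obtain ⟨V, hV, hzV, hVle⟩ := exists_isAffineOpen_mem_and_subset (X := Y) (x := j z)
      (U := j.coborderRange) (subset_coborder ⟨z, rfl⟩)
    have hzV' : i z ∈ p ⁻¹ᵁ V := (mem_preimage_of_comp w V z).1 hzV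
    obtain ⟨U₀, hU₀, hzU₀, hU₀le⟩ := exists_isAffineOpen_mem_and_subset (X := X) (x := i z)
      (U := i.coborderRange ⊓ p ⁻¹ᵁ V) ⟨subset_coborder ⟨z, rfl⟩, hzV'⟩
    obtain ⟨T, hT, hTO⟩ := j.isEmbedding.isInducing.isOpen_iff.1 (O ⊓ i ⁻¹ᵁ U₀).2
    have hzT : j z ∈ T := by
      have : z ∈ j ⁻¹' T := by rw [hTO]; exact ⟨hz, hzU₀⟩
      exact this
    obtain ⟨g, hgle, hzg⟩ := hV.exists_basicOpen_le (V := V ⊓ ⟨T, hT⟩) ⟨j z, ⟨hzV, hzT⟩⟩ hzV
    have hgT : Y.basicOpen g ≤ ⟨T, hT⟩ := fun y hy => (hgle hy).2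
    have h1 : Y.basicOpen g ≤ j.coborderRange := (Y.basicOpen_le g).trans hVle
    have hU₀V : U₀ ≤ p ⁻¹ᵁ V := fun y hy => (hU₀le hy).2
    let U := X.basicOpen (p.appLE V U₀ hU₀V g)
    have hUeq : U = U₀ ⊓ p ⁻¹ᵁ Y.basicOpen g := Scheme.basicOpen_appLE p U₀ V hU₀V g
    refine ⟨⟨_, isAffineOpen_preimage_of_le_coborder j (hV.basicOpen g) h1⟩,
      ⟨Y.basicOpen g, U, hV.basicOpen g, h1, hU₀.basicOpen _,
        fun y hy => (hU₀le ((hUeq.le hy).1)).1, fun y hy => (hUeq.le hy).2, rfl, ?_⟩, hzg, fun y hy => ?_⟩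
    · refine Opens.ext (Set.ext fun y => ⟨fun hy => hUeq.ge ⟨?_, (mem_preimage_of_comp w _ y).1 hy⟩,
        fun hy => (mem_preimage_of_comp w _ y).2 (hUeq.le hy).2⟩)
      have h2 : y ∈ j ⁻¹' T := hgT hy
      rw [hTO] at h2
      exact h2.2
    · have h2 : y ∈ j ⁻¹' T := hgT hy
      rw [hTO] at h2
      exact h2.1
  haveI : Mono (psi₀ ψ) := Preadditive.mono_of_cancel_zero _ fun {F} α hα => KoszShH13.hom_ext_basis hP fun W hW m => by
    obtain ⟨V, U, hV, hVj, hU, hUi, hUV, hWj, hWi⟩ := hW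
    refine injective_app_psi₀ hψ w hV hVj hU hUi hUV hWj hWi
      ((FormSmooth4.isFormallySmoothHom_iff p).1 hp U V hU hV hUV) ?_
    show (α ≫ psi₀ ψ).app W.1 m = (psi₀ ψ).app W.1 ((0 : F ⟶ _).app W.1 m)
    rw [hα, show (0 : F ⟶ Omega.conormal j).app W.1 m = 0 from by simp, map_zero]
    simp
  have e : ψ = (Scheme.Modules.pullbackId Z).hom.app (Omega.conormal j) ≫ psi₀ ψ := by
    simp [psi₀]
  rw [e]
  infer_instance

end Groth.Agent.GrMap12
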