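import Groth.Agent.Lib.GrMap12.Basic

/-!
# The map from the conormal sheaf to differentials exists and is unique

`app_idealSect`, `exists_conormalDiff`, `existsUnique_conormalDiff`.
-/

set_option autoImplicit false
set_option backward.isDefEq.respectTransparency false
set_option backward.isDefEq.respectTransparency.types false
set_option linter.style.haveILetI false

universe u

open CategoryTheory CategoryTheory.Limits AlgebraicGeometry TopologicalSpace Opposite

namespace Groth.Agent.GrMap12

variable {Z X S : Scheme.{u}} (i : Z ⟶ X)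

/-- Sections of the kernel ideal vanish on the source. -/
theorem app_idealSect (W : X.Opens) (s : Γ(ClSub.idealMod i.ker, W)) :
    i.app W (OmegaSh.idealSect i.ker W s) = 0 := by
  refine ConormalBC19.app_eq_zero_of_eq (Scheme.Hom.toImage_imageι i) ?_
  rw [Scheme.Hom.comp_app, CommRingCat.comp_apply]
  show i.toImage.app _ (i.ker.subschemeι.app W (M2.idealIncl i.ker s)) = 0
  rw [M2.subschemeι_app_idealIncl, map_zero]

variable {f : X ⟶ S} {Ω : X.Modules}

theorem existsUnique_conormalDiff (d : OmegaSh.Der f Ω) :
    ∃! φ : Omega.conormal i ⟶ (Scheme.Modules.pullback i).obj Ω, OmegaSh.IsConormalDiff i d φ := by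
  let adj := Scheme.Modules.pullbackPushforwardAdjunction i
  let N := (Scheme.Modules.pullback i).obj Ω
  let val : ∀ U : X.Opens, Γ(ClSub.idealMod i.ker, U) →+ Γ(N, i ⁻¹ᵁ U) := fun U =>
    (OmegaSh.pullSect i Ω U).hom.comp ((d.app U).comp (OmegaSh.idealSect i.ker U))
  let vP : (ClSub.idealMod i.ker).presheaf ⟶ ((Scheme.Modules.pushforward i).obj N).presheaf :=
    { app := fun U => AddCommGrpCat.ofHom (val U.unop)
      naturality := fun U W k => by
        ext s
        show OmegaSh.pullSect i Ω W.unop (d.app W.unop (OmegaSh.idealSect i.ker W.unop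
            (M1.mres _ k.unop.le s))) =
          M1.mres N (i.preimage_mono k.unop.le) (OmegaSh.pullSect i Ω U.unop (d.app U.unop (OmegaSh.idealSect i.ker U.unop s)))
        rw [show OmegaSh.idealSect i.ker W.unop (M1.mres _ k.unop.le s) =
          X.presheaf.map k (OmegaSh.idealSect i.ker U.unop s) from M2.idealIncl_res i.ker k.unop.le s]
        exact (congrArg _ (d.d_map k (OmegaSh.idealSect i.ker U.unop s))).trans
          (M1.app_mres ((Scheme.Modules.pullbackPushforwardAdjunction i).unit.app Ω) k.unop.le _) }
  let v : ClSub.idealMod i.ker ⟶ (Scheme.Modules.pushforward i).obj N :=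
    ⟨PresheafOfModules.homMk vP fun U r s => by
      show OmegaSh.pullSect i Ω U.unop (d.app U.unop (OmegaSh.idealSect i.ker U.unop ((show Γ(X, U.unop) from r) • (show Γ(ClSub.idealMod i.ker, U.unop) from s)))) =
        i.app U.unop (show Γ(X, U.unop) from r) • OmegaSh.pullSect i Ω U.unop (d.app U.unop (OmegaSh.idealSect i.ker U.unop s))
      rw [show OmegaSh.idealSect i.ker U.unop ((show Γ(X, U.unop) from r) • (show Γ(ClSub.idealMod i.ker, U.unop) from s)) =
        (show Γ(X, U.unop) from r) * OmegaSh.idealSect i.ker U.unop s from M2.idealIncl_smul i.ker _ _,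
        show d.app U.unop ((show Γ(X, U.unop) from r) * OmegaSh.idealSect i.ker U.unop s) =
          (show Γ(X, U.unop) from r) • d.app U.unop (OmegaSh.idealSect i.ker U.unop s) +
            OmegaSh.idealSect i.ker U.unop s • d.app U.unop (show Γ(X, U.unop) from r) from d.d_mul (X := U) _ _]
      refine (map_add (OmegaSh.pullSect i Ω U.unop).hom _ _).trans ?_
      refine (congrArg₂ (· + ·) (M2.pullSec_smul i Ω _ _) (M2.pullSec_smul i Ω _ _)).trans ?_
      rw [app_idealSect, zero_smul, add_zero]
      rfl⟩
  have e : ∀ (φ : Omega.conormal i ⟶ N) (U : X.Opens) (s : Γ(ClSub.idealMod i.ker, U)),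
      (adj.homEquiv _ _ φ).app U s = φ.app (i ⁻¹ᵁ U) (OmegaSh.conormalSect i U s) := fun φ U s => by
    rw [Adjunction.homEquiv_unit]; rfl
  refine ⟨(adj.homEquiv _ _).symm v, fun U s => ?_, fun φ hφ => ?_⟩
  · rw [← e, Equiv.apply_symm_apply]
    rfl
  · refine (adj.homEquiv _ _).injective (Eq.trans ?_ ((adj.homEquiv _ _).apply_symm_apply v).symm)
    refine Scheme.Modules.hom_ext _ _ fun U => ?_
    ext s
    exact (e φ U s).trans (hφ U s)

end Groth.Agent.GrMap12
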