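import Groth.Agent.Lib.GrMap12.GrBC
import Groth.Agent.Lib.Omega12.Finite
import Groth.Agent.Lib.FormSmooth4.Lift
import Mathlib.RingTheory.Smooth.Basic

/-!
# For a formally smooth subscheme the map from the conormal sheaf is a monomorphism

`eq_zero_of_retraction` (algebra), `mono_conormalDiff_of_formallySmooth`.
-/

set_option autoImplicit false
set_option backward.isDefEq.respectTransparency false
set_option backward.isDefEq.respectTransparency.types false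
set_option linter.style.haveILetI false

universe u

open CategoryTheory CategoryTheory.Limits AlgebraicGeometry TopologicalSpace Opposite TensorProduct

namespace Groth.Agent.GrMap12

section alg

variable {A B C M : Type u} [CommRing A] [CommRing B] [CommRing C] [Algebra A B] [Algebra B C] [Algebra A C]
  [IsScalarTower A B C] [Algebra.FormallySmooth A C] [AddCommGroup M] [Module B M]

/-- The conormal module injects for a formally smooth quotient. -/
theorem eq_zero_of_retraction (hsurj : Function.Surjective (algebraMap B C))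
    (incl : M →ₗ[B] B) (hincl : Function.Injective incl)
    (hr : LinearMap.range incl = RingHom.ker (algebraMap B C))
    (d₀ : C ⊗[B] M →+ C ⊗[B] KaehlerDifferential A B)
    (hd₀ : ∀ c m, d₀ (c ⊗ₜ m) = c ⊗ₜ KaehlerDifferential.D A B (incl m))
    (z : C ⊗[B] M) (hz : d₀ z = 0) : z = 0 := by
  let I := RingHom.ker (algebraMap B C)
  let Q := B ⧸ I ^ 2
  let π₂ : Q →ₐ[A] C := Ideal.Quotient.liftₐ (I ^ 2) (IsScalarTower.toAlgHom A B C)
    fun a ha => (RingHom.mem_ker.1 (Ideal.pow_le_self two_ne_zero ha) : _)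
  have hπ₂ : Function.Surjective π₂ := fun c => by
    obtain ⟨b, rfl⟩ := hsurj c
    exact ⟨Ideal.Quotient.mk _ b, rfl⟩
  have hmul : ∀ p q : Q, π₂ p = 0 → π₂ q = 0 → p * q = 0 := fun p q hp hq => by
    obtain ⟨a, rfl⟩ := Ideal.Quotient.mk_surjective p
    obtain ⟨b, rfl⟩ := Ideal.Quotient.mk_surjective q
    rw [← map_mul, Ideal.Quotient.eq_zero_iff_mem, pow_two]
    exact Ideal.mul_mem_mul (RingHom.mem_ker.2 hp) (RingHom.mem_ker.2 hq)
  have hnil : IsNilpotent (RingHom.ker π₂) := ⟨2, (pow_two _).trans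
    (le_bot_iff.1 (Ideal.mul_le.2 fun p hp q hq => hmul p q hp hq))⟩
  let σ := Algebra.FormallySmooth.liftOfSurjective (AlgHom.id A C) π₂ hπ₂ hnil
  have hσ : ∀ c, π₂ (σ c) = c := fun c => AlgHom.congr_fun
    (Algebra.FormallySmooth.comp_liftOfSurjective (AlgHom.id A C) π₂ hπ₂ hnil) c
  have hw : ∀ b, π₂ (Ideal.Quotient.mk (I ^ 2) b - σ (algebraMap B C b)) = 0 := fun b => by
    rw [map_sub, hσ, sub_eq_zero]; rfl
  let θ₀ : B →ₗ[A] Q := (Ideal.Quotient.mkₐ A (I ^ 2)).toLinearMap -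
    σ.toLinearMap ∘ₗ (IsScalarTower.toAlgHom A B C).toLinearMap
  let θ : Derivation A B Q := Derivation.mk' θ₀ fun a b => by
    show Ideal.Quotient.mk (I ^ 2) (a * b) - σ (algebraMap B C (a * b)) =
      Ideal.Quotient.mk (I ^ 2) a * (Ideal.Quotient.mk (I ^ 2) b - σ (algebraMap B C b)) +
        Ideal.Quotient.mk (I ^ 2) b * (Ideal.Quotient.mk (I ^ 2) a - σ (algebraMap B C a))
    have h := hmul _ _ (hw a) (hw b)
    simp only [map_mul]
    linear_combination (-1 : Q) * h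
  let L := θ.liftKaehlerDifferential
  have hLD : ∀ b, L (KaehlerDifferential.D A B b) = Ideal.Quotient.mk (I ^ 2) b - σ (algebraMap B C b) :=
    fun b => θ.liftKaehlerDifferential_comp_D b
  have hLker : ∀ ω, π₂ (L ω) = 0 := fun ω => by
    have hω : ω ∈ Submodule.span B (Set.range (KaehlerDifferential.D A B)) := by
      rw [KaehlerDifferential.span_range_derivation]; trivial
    induction hω using Submodule.span_induction with
    | mem y hy => obtain ⟨b, rfl⟩ := hy; rw [hLD]; exact hw b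
    | zero => rw [map_zero, map_zero]
    | add a b _ _ ha hb => rw [map_add, map_add, ha, hb, add_zero]
    | smul r a _ ha =>
      rw [map_smul]
      show π₂ (Ideal.Quotient.mk (I ^ 2) r * L a) = 0
      rw [map_mul, ha, mul_zero]
  let Φ : C ⊗[B] KaehlerDifferential A B →+ Q := TensorProduct.liftAddHom
    { toFun := fun c => AddMonoidHom.mk' (fun ω => σ c * L ω) (fun x y => by rw [map_add, mul_add])
      map_zero' := by ext x; simp
      map_add' := fun c c' => by ext x; simp [add_mul] }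
    fun r c ω => by
      show σ (r • c) * L ω = σ c * L (r • ω)
      rw [Algebra.smul_def, map_mul, map_smul]
      show σ (algebraMap B C r) * σ c * L ω = σ c * (Ideal.Quotient.mk (I ^ 2) r * L ω)
      have h := hmul _ _ (hw r) (hLker ω)
      linear_combination (-σ c) * h
  obtain ⟨m, rfl⟩ : ∃ m, (1 : C) ⊗ₜ[B] m = z := by
    clear hz
    induction z using TensorProduct.induction_on with
    | zero => exact ⟨0, TensorProduct.tmul_zero _ _⟩
    | tmul c m =>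
      obtain ⟨b, rfl⟩ := hsurj c
      exact ⟨b • m, by rw [TensorProduct.tmul_smul, TensorProduct.smul_tmul', Algebra.smul_def, mul_one]⟩
    | add x y hx hy =>
      obtain ⟨a, rfl⟩ := hx
      obtain ⟨b, rfl⟩ := hy
      exact ⟨a + b, TensorProduct.tmul_add _ _ _⟩
  have hm : incl m ∈ I ^ 2 := by
    have h := congrArg Φ hz
    rw [hd₀, map_zero] at h
    have h' : σ 1 * L (KaehlerDifferential.D A B (incl m)) = 0 := h
    have hIm : incl m ∈ I := hr.le ⟨m, rfl⟩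
    rw [map_one, one_mul, hLD, RingHom.mem_ker.1 hIm, map_zero, sub_zero] at h'
    exact Ideal.Quotient.eq_zero_iff_mem.1 h'
  have h2 : Submodule.map incl (I • (⊤ : Submodule B M)) = I ^ 2 := by
    rw [Submodule.map_smul'', Submodule.map_top, hr, pow_two]
    rfl
  obtain ⟨m', hm', he⟩ := h2.ge hm
  obtain rfl := hincl he
  refine Submodule.smul_induction_on hm' (fun i hi y _ => ?_) fun x y hx hy => ?_
  · rw [TensorProduct.tmul_smul, TensorProduct.smul_tmul', Algebra.smul_def, RingHom.mem_ker.1 hi, zero_mul,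
      TensorProduct.zero_tmul]
  · rw [TensorProduct.tmul_add, hx, hy, add_zero]

end alg

theorem app_surjective_of_le_coborder {X Y : Scheme.{u}} (j : X ⟶ Y) [IsImmersion j] {U : Y.Opens}
    (hU : IsAffineOpen U) (hle : U ≤ j.coborderRange) : Function.Surjective (j.app U) := by
  let W := j.coborderRange
  have e : W.ι ''ᵁ (W.ι ⁻¹ᵁ U) = U := by
    rw [Scheme.Hom.image_preimage_eq_opensRange_inf, Scheme.Opens.opensRange_ι]
    exact inf_eq_right.2 hle
  have hs := j.liftCoborder.app_surjective (W.ι ⁻¹ᵁ U) (hU.preimage_of_isOpenImmersion W.ι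
    (by rw [Scheme.Opens.opensRange_ι]; exact hle))
  rw [AlgebraicGeometry.liftCoborder_app] at hs
  have hb : Function.Surjective ((X.presheaf.map (eqToHom (j.liftCoborder_preimage (W.ι ⁻¹ᵁ U))).op) ∘
      (j.app (W.ι ''ᵁ (W.ι ⁻¹ᵁ U)))) := hs
  have h3 := hb.of_comp_left ((ConcreteCategory.isIso_iff_bijective _).1
    (inferInstance : IsIso (X.presheaf.map (eqToHom (j.liftCoborder_preimage (W.ι ⁻¹ᵁ U))).op))).1
  rwa [e] at h3

theorem isAffineOpen_preimage_of_le_coborder {X Y : Scheme.{u}} (j : X ⟶ Y) [IsImmersion j] {U : Y.Opens}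
    (hU : IsAffineOpen U) (hle : U ≤ j.coborderRange) : IsAffineOpen (j ⁻¹ᵁ U) := by
  have h := (hU.preimage_of_isOpenImmersion j.coborderRange.ι
    (by rw [Scheme.Opens.opensRange_ι]; exact hle)).preimage j.liftCoborder
  rwa [← Scheme.Hom.comp_preimage, Scheme.Hom.liftCoborder_ι] at h

variable {X' X Y : Scheme.{u}} {j : X' ⟶ X} [IsImmersion j] [QuasiCompact j] {f : X ⟶ Y} {Ω : X.Modules}
  {d : OmegaSh.Der f Ω}

set_option maxHeartbeats 1000000 in
theorem injective_app_conormalDiff (hd : OmegaSh.IsUniversal d)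
    {φ : Omega.conormal j ⟶ (Scheme.Modules.pullback j).obj Ω} (hφ : OmegaSh.IsConormalDiff j d φ)
    {U : X.Opens} (hU : IsAffineOpen U) (hle : U ≤ j.coborderRange) {V : Y.Opens} (hV : IsAffineOpen V)
    (hUV : U ≤ f ⁻¹ᵁ V) (hfs : ((j ≫ f).appLE V (j ⁻¹ᵁ U) (j.preimage_mono hUV)).hom.FormallySmooth) :
    Function.Injective (φ.app (j ⁻¹ᵁ U)) := by
  have hU' : IsAffineOpen (j ⁻¹ᵁ U) := isAffineOpen_preimage_of_le_coborder j hU hle
  letI a1 : Algebra Γ(Y, V) Γ(X, U) := (f.appLE V U hUV).hom.toAlgebra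
  letI a2 : Algebra Γ(X, U) Γ(X', j ⁻¹ᵁ U) := (j.appLE U (j ⁻¹ᵁ U) le_rfl).hom.toAlgebra
  letI a3 : Algebra Γ(Y, V) Γ(X', j ⁻¹ᵁ U) := ((j ≫ f).appLE V (j ⁻¹ᵁ U) (j.preimage_mono hUV)).hom.toAlgebra
  haveI : IsScalarTower Γ(Y, V) Γ(X, U) Γ(X', j ⁻¹ᵁ U) := IsScalarTower.of_algebraMap_eq fun r => by
    show _ = j.appLE U (j ⁻¹ᵁ U) le_rfl (f.appLE V U hUV r)
    rw [appLE_comp_eq j f rfl hUV le_rfl (j.preimage_mono hUV)]
    rfl
  haveI : Algebra.FormallySmooth Γ(Y, V) Γ(X', j ⁻¹ᵁ U) := RingHom.formallySmooth_algebraMap.1 hfs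
  let N₁ := (Scheme.Modules.pullback j).obj (ClSub.idealMod j.ker)
  let N₂ := (Scheme.Modules.pullback j).obj Ω
  letI := PullBC11.baseModule (g := j) N₁ (le_rfl : j ⁻¹ᵁ U ≤ _)
  haveI : IsScalarTower Γ(X, U) Γ(X', j ⁻¹ᵁ U) Γ(N₁, j ⁻¹ᵁ U) := IsScalarTower.of_algebraMap_smul fun _ _ => rfl
  letI := PullBC11.baseModule (g := j) N₂ (le_rfl : j ⁻¹ᵁ U ≤ _)
  haveI : IsScalarTower Γ(X, U) Γ(X', j ⁻¹ᵁ U) Γ(N₂, j ⁻¹ᵁ U) := IsScalarTower.of_algebraMap_smul fun _ _ => rfl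
  have hBC₁ : IsBaseChange Γ(X', j ⁻¹ᵁ U) (PullBC11.sect (PP12.unitTo j (ClSub.idealMod j.ker)) (le_rfl : j ⁻¹ᵁ U ≤ _)) :=
    PP12.isBC_unit j (M2.isQCoh_idealMod _) hU hU' le_rfl
  have hBC₂ : IsBaseChange Γ(X', j ⁻¹ᵁ U) (PullBC11.sect (PP12.unitTo j Ω) (le_rfl : j ⁻¹ᵁ U ≤ _)) :=
    PP12.isBC_unit j (Omega12.isQCoh_receptacle f hd) hU hU' le_rfl
  let eO := Omega12.sectLinEquiv f hd hU hV hUV
  let E₂ := (LinearEquiv.baseChange Γ(X, U) Γ(X', j ⁻¹ᵁ U) _ _ eO).trans hBC₂.equiv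
  let d₀ : Γ(X', j ⁻¹ᵁ U) ⊗[Γ(X, U)] Γ(ClSub.idealMod j.ker, U) →+
      Γ(X', j ⁻¹ᵁ U) ⊗[Γ(X, U)] KaehlerDifferential Γ(Y, V) Γ(X, U) :=
    E₂.symm.toLinearMap.toAddMonoidHom.comp ((φ.app (j ⁻¹ᵁ U)).hom.comp hBC₁.equiv.toLinearMap.toAddMonoidHom)
  have e0 : ∀ {A : Scheme.{u}} (G : A.Modules) (O : A.Opens) (t : Γ(G, O)), M1.mres G (le_rfl : O ≤ O) t = t :=
    fun G O t => ConcreteCategory.congr_hom (G.presheaf.map_id (op O)) t
  intro a b hab
  rw [← sub_eq_zero]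
  obtain ⟨z, hz⟩ := hBC₁.equiv.surjective (a - b)
  rw [← hz]
  refine (congrArg hBC₁.equiv (eq_zero_of_retraction (A := Γ(Y, V)) ?_ (inclLin j.ker U)
    (M2.idealIncl_injective _ _) ?_ d₀ (fun c m => ?_) z ?_)).trans (map_zero _)
  · show Function.Surjective (j.appLE U (j ⁻¹ᵁ U) le_rfl)
    rw [← Scheme.Hom.app_eq_appLE]
    exact app_surjective_of_le_coborder j hU hle
  · rw [range_inclLin _ ⟨U, hU⟩, Scheme.Hom.ker_apply]
    show RingHom.ker (j.app U).hom = RingHom.ker (j.appLE U (j ⁻¹ᵁ U) le_rfl).hom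
    rw [Scheme.Hom.app_eq_appLE]
  · show E₂.symm (φ.app (j ⁻¹ᵁ U) (hBC₁.equiv (c ⊗ₜ m))) = _
    rw [hBC₁.equiv_tmul, Scheme.Modules.Hom.app_smul, map_smul]
    have h1 : φ.app (j ⁻¹ᵁ U) (PullBC11.sect (PP12.unitTo j (ClSub.idealMod j.ker)) (le_rfl : j ⁻¹ᵁ U ≤ _) m) =
        E₂ ((1 : Γ(X', j ⁻¹ᵁ U)) ⊗ₜ KaehlerDifferential.D Γ(Y, V) Γ(X, U) (inclLin j.ker U m)) := by
      show φ.app (j ⁻¹ᵁ U) (M1.mres N₁ le_rfl (OmegaSh.conormalSect j U m)) =
        hBC₂.equiv ((1 : Γ(X', j ⁻¹ᵁ U)) ⊗ₜ eO (KaehlerDifferential.D Γ(Y, V) Γ(X, U) (inclLin j.ker U m)))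
      rw [hBC₂.equiv_tmul, one_smul, e0, hφ U m, Omega12.sectLinEquiv_D]
      exact (e0 N₂ _ _).symm
    rw [h1, LinearEquiv.symm_apply_apply, TensorProduct.smul_tmul', smul_eq_mul, mul_one]
  · show E₂.symm (φ.app (j ⁻¹ᵁ U) (hBC₁.equiv z)) = 0
    rw [hz, map_sub, hab, sub_self, map_zero]

theorem mono_conormalDiff_of_formallySmooth (hf : MoreMor.IsFormallySmoothHom (j ≫ f))
    (hd : OmegaSh.IsUniversal d)
    {φ : Omega.conormal j ⟶ (Scheme.Modules.pullback j).obj Ω} (hφ : OmegaSh.IsConormalDiff j d φ) : Mono φ := by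
  let P : X'.affineOpens → Prop := fun W => ∃ (U : X.Opens) (V : Y.Opens), IsAffineOpen U ∧ IsAffineOpen V ∧
    U ≤ j.coborderRange ∧ U ≤ f ⁻¹ᵁ V ∧ W.1 = j ⁻¹ᵁ U
  have hP : KoszShH13.IsAffBasis P := fun O x hx => by
    obtain ⟨T, hT, hTO⟩ := j.isEmbedding.isInducing.isOpen_iff.1 O.2
    obtain ⟨V, hV, hxV, -⟩ := exists_isAffineOpen_mem_and_subset (X := Y) (x := f (j x)) (U := ⊤) trivial
    have hxT : j x ∈ T := by
      have : x ∈ j ⁻¹' T := by rw [hTO]; exact hx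
      exact this
    obtain ⟨U, hU, hxU, hUle⟩ := exists_isAffineOpen_mem_and_subset (X := X) (x := j x)
      (U := j.coborderRange ⊓ f ⁻¹ᵁ V ⊓ ⟨T, hT⟩) ⟨⟨subset_coborder ⟨x, rfl⟩, hxV⟩, hxT⟩
    have h1 : U ≤ j.coborderRange := fun y hy => (hUle hy).1.1
    refine ⟨⟨_, isAffineOpen_preimage_of_le_coborder j hU h1⟩,
      ⟨U, V, hU, hV, h1, fun y hy => (hUle hy).1.2, rfl⟩, hxU, fun y hy => ?_⟩
    have : y ∈ j ⁻¹' T := (hUle hy).2
    rwa [hTO] at this
  refine Preadditive.mono_of_cancel_zero _ fun {F} α hα => KoszShH13.hom_ext_basis hP fun W hW m => ?_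
  obtain ⟨U, V, hU, hV, hle, hUV, hWU⟩ := hW
  obtain ⟨W, hWa⟩ := W
  obtain rfl : W = j ⁻¹ᵁ U := hWU
  refine injective_app_conormalDiff hd hφ hU hle hV hUV
    ((FormSmooth4.isFormallySmoothHom_iff (j ≫ f)).1 hf _ V hWa hV (j.preimage_mono hUV)) ?_
  show (α ≫ φ).app (j ⁻¹ᵁ U) m = φ.app (j ⁻¹ᵁ U) ((0 : F ⟶ _).app (j ⁻¹ᵁ U) m)
  rw [hα, show (0 : F ⟶ Omega.conormal j).app (j ⁻¹ᵁ U) m = 0 from by simp, map_zero]
  simp

end Groth.Agent.GrMap12
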