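import Groth.Agent.Lib.ConormalBC19.Basic
import Groth.Agent.Lib.ModLimH13.Hom1
import Groth.Agent.Lib.FormalH7.Nbhd
import Groth.Agent.Lib.EffCartier.Comap
import Groth.Prelude.Def_OmegaPn
import Groth.Prelude.Def_Omega3

/-!
# Maps of graded pieces of ideals are inverse images of the comparison maps of ideals
-/

set_option autoImplicit false
set_option backward.isDefEq.respectTransparency false
set_option backward.isDefEq.respectTransparency.types false
set_option linter.style.haveILetI false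

universe u

open CategoryTheory CategoryTheory.Limits AlgebraicGeometry TopologicalSpace Opposite

namespace Groth.Agent.GrMap12

section psi

variable {X X' : Scheme.{u}} (f : X' ⟶ X) (I : X.IdealSheafData) (I' : X'.IdealSheafData) (h : I ≤ I'.map f)

theorem idealIncl_psi {U : X.Opens} (a : Γ(ClSub.idealMod I, U)) :
    M2.idealIncl I' ((ConormalBC19.psi f I I' h).app (f ⁻¹ᵁ U) (M2.pullSec f (ClSub.idealMod I) a)) =
      f.app U (M2.idealIncl I a) := by
  have h1 : (ConormalBC19.psi f I I' h ≫ ClSub.idealModι I').app (f ⁻¹ᵁ U) (M2.pullSec f (ClSub.idealMod I) a) =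
      (ConormalBC19.phi0 f I).app (f ⁻¹ᵁ U) (M2.pullSec f (ClSub.idealMod I) a) := by
    rw [ConormalBC19.psi_comp]
  have h2 : ((Scheme.Modules.pullbackPushforwardAdjunction f).homEquiv _ _ (ConormalBC19.phi0 f I)).app U a =
      (ClSub.idealModι I ≫ ClSub.unitToPush f).app U a := by
    rw [ConormalBC19.phi0, Equiv.apply_symm_apply]
  rw [Adjunction.homEquiv_unit] at h2
  exact h1.trans h2

end psi

variable {Z Z' X X' : Scheme.{u}} {i : Z ⟶ X} {i' : Z' ⟶ X'} {g : X ⟶ X'} {gZ : Z ⟶ Z'}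

/-- The comparison of inverse images of ideals, as a map of classes. -/
noncomputable def canMap (w : gZ ≫ i' = i ≫ g) (J' : X'.IdealSheafData) (J : X.IdealSheafData)
    (h : J' ≤ J.map g) :
    (Scheme.Modules.pullback gZ).obj ((Scheme.Modules.pullback i').obj (ClSub.idealMod J')) ⟶
      (Scheme.Modules.pullback i).obj (ClSub.idealMod J) :=
  (ModLimH13.cmp gZ i' rfl).hom.app _ ≫ (ModLimH13.cmp i g w.symm).inv.app _ ≫
    (Scheme.Modules.pullback i).map (ConormalBC19.psi g J' J h)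

theorem eq_canMap (w : gZ ≫ i' = i ≫ g) (J' : X'.IdealSheafData) (J : X.IdealSheafData) (h : J' ≤ J.map g)
    (φ : (Scheme.Modules.pullback gZ).obj ((Scheme.Modules.pullback i').obj (ClSub.idealMod J')) ⟶
      (Scheme.Modules.pullback i).obj (ClSub.idealMod J))
    (hφ : ∀ (U' : X'.Opens) (s' : Γ(ClSub.idealMod J', U')) (s : Γ(ClSub.idealMod J, g ⁻¹ᵁ U')),
      OmegaSh.idealSect J (g ⁻¹ᵁ U') s = g.app U' (OmegaSh.idealSect J' U' s') →
      ∀ (V : Z.Opens) (h₁ : V ≤ gZ ⁻¹ᵁ (i' ⁻¹ᵁ U')) (h₂ : V ≤ i ⁻¹ᵁ (g ⁻¹ᵁ U')),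
        ((Scheme.Modules.pullback i).obj (ClSub.idealMod J)).presheaf.map (homOfLE h₁).op
            (φ.app (gZ ⁻¹ᵁ (i' ⁻¹ᵁ U')) (OmegaSh.pullSect gZ _ (i' ⁻¹ᵁ U')
              (OmegaSh.pullSect i' (ClSub.idealMod J') U' s'))) =
          ((Scheme.Modules.pullback i).obj (ClSub.idealMod J)).presheaf.map (homOfLE h₂).op
            (OmegaSh.pullSect i (ClSub.idealMod J) (g ⁻¹ᵁ U') s)) :
    φ = canMap w J' J h := by
  haveI : Coh.IsQCoh (ClSub.idealMod J') := M2.isQCoh_idealMod J'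
  let M := ClSub.idealMod J'
  let c := ModLimH13.cmp gZ i' (rfl : gZ ≫ i' = _)
  let d := ModLimH13.cmp i g w.symm
  suffices key : c.inv.app M ≫ φ = d.inv.app M ≫ (Scheme.Modules.pullback i).map (ConormalBC19.psi g J' J h) by
    rw [canMap, ← key, Iso.hom_inv_id_app_assoc]
  refine ModLimH13.pullback_hom_ext _ M _ _ fun x => ?_
  obtain ⟨U', hU', hxU', -⟩ := exists_isAffineOpen_mem_and_subset (X := X') (x := x) (U := ⊤) trivial
  refine ⟨U', Set.univ, hxU', hU', Submodule.span_univ, fun s' _ => ?_⟩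
  let W := (gZ ≫ i') ⁻¹ᵁ U'
  have h₁ : W ≤ gZ ⁻¹ᵁ (i' ⁻¹ᵁ U') := le_rfl
  have h₂ : W ≤ i ⁻¹ᵁ (g ⁻¹ᵁ U') := (congrArg (fun a : Z ⟶ X' => a ⁻¹ᵁ U') w).le
  let r := ModLimH13.res' (gZ ≫ i') M (W := U') (W' := W) le_rfl s'
  have ec : (c.inv.app M).app W r = ModLimH13.res' gZ _ h₁ (ModLimH13.res' i' M (le_rfl : i' ⁻¹ᵁ U' ≤ _) s') := by
    refine (congrArg ((c.inv.app M).app W) (ModLimH13.cmp_res' gZ i' M rfl le_rfl h₁ s').symm).trans ?_
    exact congrArg (fun ψ => ψ.app W (ModLimH13.res' gZ _ h₁ (ModLimH13.res' i' M (le_rfl : i' ⁻¹ᵁ U' ≤ _) s')))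
      (c.hom_inv_id_app M)
  have ed : (d.inv.app M).app W r = ModLimH13.res' i _ h₂ (ModLimH13.res' g M (le_rfl : g ⁻¹ᵁ U' ≤ _) s') := by
    refine (congrArg ((d.inv.app M).app W) (ModLimH13.cmp_res' i g M w.symm le_rfl h₂ s').symm).trans ?_
    exact congrArg (fun ψ => ψ.app W (ModLimH13.res' i _ h₂ (ModLimH13.res' g M (le_rfl : g ⁻¹ᵁ U' ≤ _) s')))
      (d.hom_inv_id_app M)
  let ψ := ConormalBC19.psi g J' J h
  let s := ψ.app (g ⁻¹ᵁ U') (M2.pullSec g M s')
  show φ.app W ((c.inv.app M).app W r) = ((Scheme.Modules.pullback i).map ψ).app W ((d.inv.app M).app W r)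
  rw [ec, ed]
  refine Eq.trans (M1.app_mres φ h₁ _) (Eq.trans ?_ (M1.app_mres ((Scheme.Modules.pullback i).map ψ) h₂ _).symm)
  have e0 : ∀ {A : Scheme.{u}} (G : A.Modules) (O : A.Opens) (t : Γ(G, O)), M1.mres G (le_rfl : O ≤ O) t = t :=
    fun G O t => ConcreteCategory.congr_hom (G.presheaf.map_id (op O)) t
  rw [show ModLimH13.res' i' M (le_rfl : i' ⁻¹ᵁ U' ≤ _) s' = M2.pullSec i' M s' from e0 _ _ _,
    show ModLimH13.res' g M (le_rfl : g ⁻¹ᵁ U' ≤ _) s' = M2.pullSec g M s' from e0 _ _ _,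
    FormalH7.pullSec_naturality i ψ (M2.pullSec g M s')]
  exact hφ U' s' s (idealIncl_psi g J' J h s') W h₁ h₂

/-- An inverse image of an epimorphism. -/
theorem epi_canMap (w : gZ ≫ i' = i ≫ g) (J' : X'.IdealSheafData) :
    Epi (canMap w J' (J'.comap g) (Scheme.IdealSheafData.le_map_iff_comap_le.2 le_rfl)) := by
  haveI : Epi (ConormalBC19.psi g J' (J'.comap g) (Scheme.IdealSheafData.le_map_iff_comap_le.2 le_rfl)) := by
    refine ConormalBC19.epi_psi _ _ _ _ fun x => ?_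
    obtain ⟨U, hU, hx, -⟩ := exists_isAffineOpen_mem_and_subset (X := X') (x := g x) (U := ⊤) trivial
    exact ⟨⟨U, hU⟩, hx, fun V e => (EffCartier.comap_ideal J' g ⟨U, hU⟩ V e).le⟩
  haveI := (Scheme.Modules.pullback i).map_epi (ConormalBC19.psi g J' (J'.comap g)
    (Scheme.IdealSheafData.le_map_iff_comap_le.2 le_rfl))
  rw [canMap]
  infer_instance

/-- An inverse image of an isomorphism, for flat base change. -/
theorem isIso_canMap [Flat g] (w : gZ ≫ i' = i ≫ g) (J' : X'.IdealSheafData) :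
    IsIso (canMap w J' (J'.comap g) (Scheme.IdealSheafData.le_map_iff_comap_le.2 le_rfl)) := by
  haveI : Epi (ConormalBC19.psi g J' (J'.comap g) (Scheme.IdealSheafData.le_map_iff_comap_le.2 le_rfl)) := by
    refine ConormalBC19.epi_psi _ _ _ _ fun x => ?_
    obtain ⟨U, hU, hx, -⟩ := exists_isAffineOpen_mem_and_subset (X := X') (x := g x) (U := ⊤) trivial
    exact ⟨⟨U, hU⟩, hx, fun V e => (EffCartier.comap_ideal J' g ⟨U, hU⟩ V e).le⟩
  haveI := ConormalBC19.mono_psi g J' (J'.comap g) (Scheme.IdealSheafData.le_map_iff_comap_le.2 le_rfl)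
  haveI := isIso_of_mono_of_epi (ConormalBC19.psi g J' (J'.comap g) (Scheme.IdealSheafData.le_map_iff_comap_le.2 le_rfl))
  rw [canMap]
  infer_instance

end Groth.Agent.GrMap12
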