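import Groth.Agent.Lib.GrFlat.Basic
import Mathlib.RingTheory.Flat.Equalizer
import Mathlib.RingTheory.TensorProduct.Quotient

/-!
# Graded pieces of the ideal of a retraction commute with base change

`flat_quot`, `injective_gr`.
-/

set_option autoImplicit false
set_option backward.isDefEq.respectTransparency false
set_option backward.isDefEq.respectTransparency.types false
set_option linter.style.haveILetI false

universe u

open TensorProduct

namespace Groth.Agent.GrMap12

section

variable {A B : Type u} [CommRing A] [CommRing B] [Algebra A B] (I : Ideal B)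

/-- `I^k/I^(k+1)` inside `B/I^(k+1)`. -/
noncomputable abbrev grInQuot (k : ℕ) : Submodule A (B ⧸ I ^ (k + 1)) :=
  LinearMap.range ((Ideal.Quotient.mkₐ A (I ^ (k + 1))).toLinearMap ∘ₗ ((I ^ k).restrictScalars A).subtype)

/-- `B/I^(k+1) → B/I^k`. -/
noncomputable def quotTr (k : ℕ) : (B ⧸ I ^ (k + 1)) →ₗ[A] (B ⧸ I ^ k) :=
  (Ideal.Quotient.factorₐ A (Ideal.pow_le_pow_right k.le_succ : I ^ (k + 1) ≤ I ^ k)).toLinearMap

theorem quotTr_surjective (k : ℕ) : Function.Surjective (quotTr (A := A) I k) := fun z => by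
  obtain ⟨b, rfl⟩ := Ideal.Quotient.mk_surjective z
  exact ⟨Ideal.Quotient.mk _ b, rfl⟩

theorem exact_grInQuot (k : ℕ) :
    Function.Exact (grInQuot (A := A) I k).subtype (quotTr (A := A) I k) := by
  intro z
  constructor
  · intro hz
    obtain ⟨b, rfl⟩ := Ideal.Quotient.mk_surjective z
    exact ⟨⟨_, ⟨⟨b, Ideal.Quotient.eq_zero_iff_mem.1 hz⟩, rfl⟩⟩, rfl⟩
  · rintro ⟨⟨_, ⟨b, rfl⟩⟩, rfl⟩
    exact Ideal.Quotient.eq_zero_iff_mem.2 b.2

theorem flat_quot : ∀ n : ℕ, (∀ k < n, Module.Flat A (grInQuot (A := A) I k)) → Module.Flat A (B ⧸ I ^ n)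
  | 0, _ => by
    haveI : Subsingleton (B ⧸ I ^ 0) := Ideal.Quotient.subsingleton_iff.2 (by rw [pow_zero, Ideal.one_eq_top])
    infer_instance
  | n + 1, h => by
    haveI := flat_quot n fun k hk => h k (hk.trans n.lt_succ_self)
    haveI := h n n.lt_succ_self
    exact GrFlat.flat_middle (grInQuot (A := A) I n).subtype Subtype.val_injective (quotTr I n)
      (exact_grInQuot I n) (quotTr_surjective I n)

end

variable {A B A' B' M : Type u} [CommRing A] [CommRing B] [CommRing A'] [CommRing B'] [Algebra A B]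
  [Algebra A A'] [Algebra A' B'] [Algebra B B'] [Algebra A B'] [IsScalarTower A A' B'] [IsScalarTower A B B']
  [Algebra B A'] [IsScalarTower A B A'] [AddCommGroup M] [Module B M]

/-- The kernel of `A' ⊗ I^n → B'/I^(n+1)B'` vanishes when `B/I^n` is flat. -/
theorem injective_gr [Algebra.IsPushout A A' B B'] (I : Ideal B) (n : ℕ) [Module.Flat A (B ⧸ I ^ n)]
    (hI : ∀ i ∈ I, algebraMap B A' i = 0) (incl : M →ₗ[B] B) (hincl : Function.Injective incl)
    (hr : LinearMap.range incl = I ^ n) (Φ : A' ⊗[B] M →+ B' ⧸ (I ^ (n + 1)).map (algebraMap B B'))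
    (hΦ : ∀ a m, Φ (a ⊗ₜ m) = Ideal.Quotient.mk _ (algebraMap A' B' a * algebraMap B B' (incl m)))
    (z : A' ⊗[B] M) (hz : Φ z = 0) : z = 0 := by
  letI : Module A M := Module.compHom M (algebraMap A B)
  haveI : IsScalarTower A B M := IsScalarTower.of_algebraMap_smul fun _ _ => rfl
  let g : M →ₗ[A] B ⧸ I ^ (n + 1) :=
    (Ideal.Quotient.mkₐ A (I ^ (n + 1))).toLinearMap ∘ₗ incl.restrictScalars A
  let e₀ : (A' ⊗[A] B) ⧸ (I ^ (n + 1)).map (Algebra.TensorProduct.includeRight (A := A') (R := A)) ≃+*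
      B' ⧸ (I ^ (n + 1)).map (algebraMap B B') :=
    Ideal.quotientEquiv _ _ (Algebra.IsPushout.equiv A A' B B').toRingEquiv (by
      show (I ^ (n + 1)).map (algebraMap B B') = Ideal.map ((Algebra.IsPushout.equiv A A' B B').toRingEquiv.toRingHom)
        ((I ^ (n + 1)).map (Algebra.TensorProduct.includeRight (A := A') (R := A) (B := B)).toRingHom)
      rw [Ideal.map_map]
      congr 1
      refine RingHom.ext fun b => ?_
      show _ = Algebra.IsPushout.equiv A A' B B' (1 ⊗ₜ b)
      rw [Algebra.IsPushout.equiv_tmul, map_one, one_mul])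
  let e : A' ⊗[A] (B ⧸ I ^ (n + 1)) ≃+ B' ⧸ (I ^ (n + 1)).map (algebraMap B B') :=
    (Algebra.TensorProduct.tensorQuotientEquiv (R := A) A' B A' (I ^ (n + 1))).toAddEquiv.trans e₀.toAddEquiv
  have he : ∀ (a : A') (b : B), e (a ⊗ₜ Ideal.Quotient.mk _ b) =
      Ideal.Quotient.mk _ (algebraMap A' B' a * algebraMap B B' b) := fun a b => by
    show Ideal.Quotient.mk _ (Algebra.IsPushout.equiv A A' B B' (a ⊗ₜ b)) = _
    rw [Algebra.IsPushout.equiv_tmul]
  let p : A' ⊗[A] M →ₗ[A] A' ⊗[B] M :=
    TensorProduct.lift (LinearMap.mk₂ A (fun a m => a ⊗ₜ[B] m) (fun _ _ _ => TensorProduct.add_tmul _ _ _)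
      (fun c a m => by rw [TensorProduct.smul_tmul'])
      (fun _ _ _ => TensorProduct.tmul_add _ _ _)
      (fun c a m => by
        rw [← algebraMap_smul B c m, TensorProduct.tmul_smul, algebraMap_smul]))
  have hpsurj : Function.Surjective p := fun y => by
    induction y using TensorProduct.induction_on with
    | zero => exact ⟨0, map_zero _⟩
    | tmul a m => exact ⟨a ⊗ₜ m, rfl⟩
    | add x y hx hy =>
      obtain ⟨a, rfl⟩ := hx
      obtain ⟨b, rfl⟩ := hy
      exact ⟨a + b, map_add _ _ _⟩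
  obtain ⟨w, rfl⟩ := hpsurj z
  have hcomp : ∀ w, Φ (p w) = e (g.lTensor A' w) := fun w => by
    induction w using TensorProduct.induction_on with
    | zero => simp
    | tmul a m =>
      rw [LinearMap.lTensor_tmul]
      exact (hΦ a m).trans (he a (incl m)).symm
    | add x y hx hy => rw [map_add, map_add, map_add, map_add, hx, hy]
  have hw : g.lTensor A' w = 0 := e.injective (by rw [← hcomp, hz, map_zero])
  -- the kernel part
  let R := LinearMap.range g
  have hexR : Function.Exact R.subtype (quotTr (A := A) I n) := by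
    have : R = grInQuot (A := A) I n := by
      refine SetLike.ext fun q => ⟨?_, ?_⟩
      · rintro ⟨m, rfl⟩
        exact ⟨⟨incl m, hr.le ⟨m, rfl⟩⟩, rfl⟩
      · rintro ⟨⟨b, hb⟩, rfl⟩
        obtain ⟨m, hm⟩ := hr.ge hb
        exact ⟨m, congrArg (Ideal.Quotient.mk (I ^ (n + 1))) hm⟩
    intro q
    rw [exact_grInQuot (A := A) I n q]
    simp only [Submodule.coe_subtype, Subtype.range_coe_subtype, this]
  have hinj := LinearMap.lTensor_injective_of_exact_of_flat (quotTr (A := A) I n) (quotTr_surjective I n)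
    R.subtype Subtype.val_injective hexR A'
  have hw' : g.rangeRestrict.lTensor A' w = 0 := hinj (by
    rw [map_zero, ← LinearMap.comp_apply, ← LinearMap.lTensor_comp]
    exact hw)
  obtain ⟨v, rfl⟩ := (lTensor_exact A' g.rangeRestrict.exact_subtype_ker_map g.surjective_rangeRestrict w).1 hw' 
  have hker : ∀ (a : A') (m : M), g m = 0 → a ⊗ₜ[B] m = 0 := by
    intro a m hm
    have h1 : incl m ∈ I ^ (n + 1) := Ideal.Quotient.eq_zero_iff_mem.1 hm
    have h2 : Submodule.map incl (I • (⊤ : Submodule B M)) = I ^ (n + 1) := by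
      rw [Submodule.map_smul'', Submodule.map_top, hr, pow_succ']
      rfl
    obtain ⟨m', hm', he'⟩ := h2.ge h1
    obtain rfl := hincl he'
    refine Submodule.smul_induction_on hm' (fun i hi y _ => ?_) fun x y hx hy => ?_
    · rw [TensorProduct.tmul_smul, TensorProduct.smul_tmul', Algebra.smul_def, hI i hi, zero_mul,
        TensorProduct.zero_tmul]
    · rw [TensorProduct.tmul_add, hx, hy, add_zero]
  clear hz hw hw'
  induction v using TensorProduct.induction_on with
  | zero => rw [map_zero, map_zero]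
  | tmul a k => exact hker a k.1 (congrArg Subtype.val (LinearMap.mem_ker.1 k.2))
  | add x y hx hy =>
    rw [map_add, map_add, hx, hy, add_zero]

end Groth.Agent.GrMap12
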