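import Groth.Agent.Lib.GrMap12.Split
import Groth.Agent.Lib.TensorMod.PullSupport
import Groth.Agent.Lib.LimH13.KerFG
import Mathlib.AlgebraicGeometry.Morphisms.ClosedImmersion

/-!
# Vanishing of the conormal sheaf at a point
-/

set_option autoImplicit false
set_option backward.isDefEq.respectTransparency false
set_option backward.isDefEq.respectTransparency.types false
set_option linter.style.haveILetI false

universe u

open CategoryTheory CategoryTheory.Limits AlgebraicGeometry TopologicalSpace Opposite TensorProduct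

namespace Groth.Agent.GrMap12

variable {Y X : Scheme.{u}} (j : Y ⟶ X)

theorem app_zero_of_section {W : X.Opens} (s : Γ(ClSub.idealMod j.ker, W)) :
    j.app W (M2.idealIncl j.ker s) = 0 := by
  refine ConormalBC19.app_eq_zero_of_eq (Scheme.Hom.toImage_imageι j) ?_
  rw [Scheme.Hom.comp_app, CommRingCat.comp_apply]
  show j.toImage.app _ (j.ker.subschemeι.app W (M2.idealIncl j.ker s)) = 0
  rw [M2.subschemeι_app_idealIncl, map_zero]

theorem subsingleton_conormal_stalk_of_open [QuasiCompact j] {U : Y.Opens} {y : Y} (hy : y ∈ U)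
    [IsOpenImmersion (U.ι ≫ j)] : Subsingleton ((Omega.conormal j).presheaf.stalk y) := by
  have hinj : Function.Injective (j.stalkMap y) := by
    let z : (U : Scheme.{u}) := ⟨y, hy⟩
    have h := (ConcreteCategory.bijective_of_isIso ((U.ι ≫ j).stalkMap z)).1
    intro a b hab
    apply h
    rw [Scheme.Hom.stalkMap_comp, CommRingCat.comp_apply, CommRingCat.comp_apply]
    exact congrArg (U.ι.stalkMap z) hab
  haveI : Subsingleton ((ClSub.idealMod j.ker).presheaf.stalk (j y) : Type u) := by
    suffices h0 : ∀ a : ((ClSub.idealMod j.ker).presheaf.stalk (j y) : Type u), a = 0 from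
      ⟨fun a b => (h0 a).trans (h0 b).symm⟩
    intro a
    obtain ⟨W, hW, s, rfl⟩ := (ClSub.idealMod j.ker).presheaf.exists_germ_eq a
    have h1 : X.presheaf.germ W (j y) hW (M2.idealIncl j.ker s) = X.presheaf.germ W (j y) hW 0 := by
      apply hinj
      rw [Scheme.Hom.germ_stalkMap_apply, Scheme.Hom.germ_stalkMap_apply, app_zero_of_section, map_zero, map_zero,
        map_zero]
    obtain ⟨O, hO, i₁, i₂, he⟩ := X.presheaf.germ_eq (j y) hW hW _ _ h1
    rw [← M1.germ_mres (ClSub.idealMod j.ker) i₁.le hO s, show M1.mres (ClSub.idealMod j.ker) i₁.le s = 0 from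
      M2.idealIncl_injective j.ker O ((M2.idealIncl_res j.ker i₁.le s).trans (he.trans (by
        rw [map_zero, M2.idealIncl, map_zero])))]
    exact map_zero _
  haveI : Subsingleton (M2.BC j y (ClSub.idealMod j.ker)) := inferInstance
  exact (M2.pullStalkEquiv j y (ClSub.idealMod j.ker)).symm.toEquiv.subsingleton

theorem exists_open_of_subsingleton [IsImmersion j] [QuasiCompact j] [LocallyOfFinitePresentation j] (y : Y)
    (h : Subsingleton ((Omega.conormal j).presheaf.stalk y)) :
    ∃ U : Y.Opens, y ∈ U ∧ IsOpenImmersion (U.ι ≫ j) := by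
  let M := ClSub.idealMod j.ker
  have hM : Coh.IsQCoh M := M2.isQCoh_idealMod _
  haveI := hM
  obtain ⟨V, hV, hyV, hVle⟩ := exists_isAffineOpen_mem_and_subset (X := X) (x := j y) (U := j.coborderRange)
    (subset_coborder ⟨y, rfl⟩)
  have hVle : V ≤ j.coborderRange := hVle
  have hcl : ∀ {W : X.Opens}, W ≤ j.coborderRange → IsClosedImmersion (j ∣_ W) := fun {W} hW => by
    haveI : IsImmersion (j ∣_ W) := IsZariskiLocalAtTarget.restrict (P := @IsImmersion) inferInstance _
    refine IsClosedImmersion.of_isPreimmersion _ ?_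
    have he : Set.range (j ∣_ W) = (fun w : (W : Set X) => (⟨w.1, hW w.2⟩ : (j.coborderRange : Set X))) ⁻¹'
        Set.range (fun z => (⟨j z, subset_coborder ⟨z, rfl⟩⟩ : (j.coborderRange : Set X))) := by
      ext w
      rw [morphismRestrict_base]
      constructor
      · rintro ⟨z, rfl⟩; exact ⟨z.1, rfl⟩
      · rintro ⟨z, hz⟩
        have hzw : j z = w.1 := congrArg Subtype.val hz
        exact ⟨⟨z, show j z ∈ W from hzw ▸ w.2⟩, Subtype.ext hzw⟩
    rw [he]
    refine IsClosed.preimage (Continuous.subtype_mk continuous_subtype_val _) ?_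
    have hc := j.liftCoborder.isClosedEmbedding.isClosed_range
    rw [show (fun z => (⟨j z, subset_coborder ⟨z, rfl⟩⟩ : (j.coborderRange : Set X))) = ⇑j.liftCoborder from
      funext fun z => Subtype.ext (congrArg (fun g : Y ⟶ X => g z) j.liftCoborder_ι).symm]
    exact hc
  -- the ideal on `V` is finitely generated
  haveI hclV := hcl hVle
  haveI : LocallyOfFinitePresentation (j ∣_ V) :=
    IsZariskiLocalAtTarget.restrict (P := @LocallyOfFinitePresentation) inferInstance _
  haveI : IsAffine (V : Scheme.{u}) := hV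
  have hjV : IsAffineOpen (j ⁻¹ᵁ V) := (IsClosedImmersion.isAffine_surjective_of_isAffine (j ∣_ V)).1
  have hsurj : Function.Surjective (j.app V) := by
    have hs := (IsClosedImmersion.isAffine_surjective_of_isAffine (j ∣_ V)).2
    rw [morphismRestrict_appTop] at hs
    have hb : Function.Surjective ((Y.presheaf.map (eqToHom (image_morphismRestrict_preimage j V ⊤)).op) ∘
        (j.app (V.ι ''ᵁ ⊤))) := hs
    have h3 := hb.of_comp_left (ConcreteCategory.bijective_of_isIso _).1
    rwa [V.ι_image_top] at h3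
  have hfg : (j.ker.ideal ⟨V, hV⟩).FG := by
    rw [Scheme.Hom.ker_apply]
    have h1 := LocallyOfFinitePresentation.finitePresentation_appLE (f := j) hV hjV le_rfl
    rw [← Scheme.Hom.app_eq_appLE] at h1
    exact LimH13.ker_fg_of_surjective _ hsurj h1
  -- the stalk is finite, hence zero
  let φ : Γ(M, V) →ₗ[Γ(X, V)] Γ(X, V) :=
    { toFun := M2.idealIncl j.ker
      map_add' := M2.idealIncl_add j.ker
      map_smul' := fun r a => M2.idealIncl_smul j.ker r a }
  have hφ : Function.Injective φ := M2.idealIncl_injective j.ker V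
  have hr : LinearMap.range φ = j.ker.ideal ⟨V, hV⟩ :=
    SetLike.coe_injective ((LinearMap.coe_range φ).trans (M2.range_idealIncl j.ker ⟨V, hV⟩))
  haveI : Module.Finite Γ(X, V) (LinearMap.range φ) := Module.Finite.iff_fg.2 (hr ▸ hfg)
  haveI : Module.Finite Γ(X, V) Γ(M, V) := Module.Finite.equiv (LinearEquiv.ofInjective φ hφ).symm
  haveI : Module.Finite (X.presheaf.stalk (j y)) (M.presheaf.stalk (j y)) := by
    letI := M1.stalkModule M hyV
    haveI := M1.isLocalizedModule_germ M hV hyV
    letI : Algebra Γ(X, V) (X.presheaf.stalk (j y)) := (X.presheaf.germ V (j y) hyV).hom.toAlgebra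
    haveI : IsScalarTower Γ(X, V) (X.presheaf.stalk (j y)) (M.presheaf.stalk (j y)) :=
      IsScalarTower.of_algebraMap_smul fun _ _ => rfl
    haveI : IsLocalization.AtPrime (X.presheaf.stalk (j y)) (hV.primeIdealOf ⟨j y, hyV⟩).asIdeal :=
      hV.isLocalization_stalk ⟨j y, hyV⟩
    exact Module.Finite.of_isLocalizedModule (hV.primeIdealOf ⟨j y, hyV⟩).asIdeal.primeCompl
      (M1.germₗ M hyV)
  haveI : IsLocalHom (algebraMap (X.presheaf.stalk (j y)) (Y.presheaf.stalk y)) :=
    inferInstanceAs (IsLocalHom (j.stalkMap y).hom)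
  haveI : Subsingleton (M2.BC j y M) := @Equiv.subsingleton _ _ (M2.pullStalkEquiv j y M).toEquiv h
  haveI hz : Subsingleton (M.presheaf.stalk (j y) : Type u) :=
    M2.subsingleton_of_baseChange_local (A := X.presheaf.stalk (j y)) (B := Y.presheaf.stalk y)
      (M.presheaf.stalk (j y) : Type u)
  -- so the ideal vanishes near `j y`
  obtain ⟨T, hT⟩ := hfg
  have hz' : ∀ t : T, ∃ O : X.Opens, j y ∈ O ∧ ∃ hO : O ≤ V, X.presheaf.map (homOfLE hO).op t.1 = 0 := fun t => by
    obtain ⟨s, hs⟩ := (M2.range_idealIncl j.ker ⟨V, hV⟩).ge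
      (show (t.1 : Γ(X, V)) ∈ j.ker.ideal ⟨V, hV⟩ from hT ▸ Submodule.subset_span t.2)
    obtain ⟨O, hO, i₁, i₂, he⟩ := M.presheaf.germ_eq (U := V) (V := V) (j y) hyV hyV s 0 (Subsingleton.elim _ _)
    refine ⟨O, hO, i₁.le, ?_⟩
    rw [← hs]
    refine (M2.idealIncl_res j.ker i₁.le s).symm.trans ?_
    rw [show M2.res (ClSub.idealMod j.ker) i₁.le s = 0 from he.trans (map_zero _), M2.idealIncl, map_zero]
  choose O hO hOV hOt using hz'
  obtain ⟨W, hW, hyW, hWle⟩ := exists_isAffineOpen_mem_and_subset (X := X) (x := j y)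
    (U := V ⊓ T.attach.inf O) ⟨hyV, by
      have : ∀ (S : Finset T), j y ∈ S.inf O := fun S => by
        classical
        induction S using Finset.induction_on with
        | empty => exact trivial
        | insert a S ha ih => rw [Finset.inf_insert]; exact ⟨hO a, ih⟩
      exact this _⟩
  have hWV : W ≤ V := fun x hx => (hWle hx).1
  have hWO : ∀ t : T, W ≤ O t := fun t x hx =>
    (show T.attach.inf O ≤ O t from Finset.inf_le (Finset.mem_attach T t)) (hWle hx).2
  have hker : j.ker.ideal ⟨W, hW⟩ = ⊥ := by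
    rw [← j.ker.map_ideal (show (⟨W, hW⟩ : X.affineOpens) ≤ ⟨V, hV⟩ from hWV), ← hT, Ideal.map_span,
      Ideal.span_eq_bot]
    rintro _ ⟨t, ht, rfl⟩
    have h0 := hOt ⟨t, ht⟩
    have e : (homOfLE hWV).op = (homOfLE (hOV ⟨t, ht⟩)).op ≫ (homOfLE (hWO ⟨t, ht⟩)).op := rfl
    show X.presheaf.map (homOfLE hWV).op t = 0
    rw [e, Functor.map_comp, CommRingCat.comp_apply, h0, map_zero]
  haveI hclW := hcl (hWV.trans hVle)
  haveI : IsAffine (W : Scheme.{u}) := hW
  haveI : IsIso (j ∣_ W) := IsClosedImmersion.isIso_of_injective_of_isAffine (by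
    rw [show (j ∣_ W).appTop = (j ∣_ W).app ⊤ from rfl, morphismRestrict_app]
    refine (ConcreteCategory.bijective_of_isIso (Y.presheaf.map
      (eqToHom (image_morphismRestrict_preimage j W ⊤)).op)).1.comp ?_
    have hWinj : Function.Injective (j.app W) := by
      rw [RingHom.injective_iff_ker_eq_bot, ← hker, Scheme.Hom.ker_apply]
    have key : ∀ A : X.Opens, A = W → Function.Injective (j.app A) := by rintro A rfl; exact hWinj
    exact key _ W.ι_image_top)
  refine ⟨j ⁻¹ᵁ W, hyW, ?_⟩
  rw [← morphismRestrict_ι]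
  infer_instance

end Groth.Agent.GrMap12
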